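import Cfsg.Agent.GW.CaseI.Normalizer
import Cfsg.Agent.Solvable.PGroupBasic
import Cfsg.Agent.Solvable.CoprimeAct
import Cfsg.Agent.ZJ.PStable
import Cfsg.Agent.DGroup.Bender

/-!
# An element acting quadratically on the `O_p` of a solvable core

A `p`-element `z` inverted by `u` and fixing the fixed points of `v` on a group `E`, with
`z` commuting with `u v`, acts quadratically on `E` modulo its Frattini subgroup. In a core of odd
order such an element lies in `O_p` when it centralises the other `O_q`.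
-/

set_option autoImplicit false
set_option linter.style.haveILetI false
set_option linter.unusedSectionVars false

namespace CfsgLib.GW.CaseI

open Subgroup
open scoped commutatorElement
open CfsgLib.DGroup (coreIn Op conj_mem conj_mem' odd_orderOf commute_of_sq normalizer_le_map_char)

universe u

variable {G : Type u} [Group G] [Finite G]

/-- The Frattini subgroup of `E`, in `G`. -/
def frat (E : Subgroup G) : Subgroup G := (frattini E).map E.subtype

theorem frat_le (E : Subgroup G) : frat E ≤ E := map_subtype_le _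

theorem normalizer_le_frat (E : Subgroup G) :
    normalizer (E : Set G) ≤ normalizer (frat E : Set G) :=
  normalizer_le_map_char E (frattini E)

theorem comm_mem_frat {p : ℕ} [Fact p.Prime] {E : Subgroup G} (hE : IsPGroup p E) {x y : G}
    (hx : x ∈ E) (hy : y ∈ E) : x * y * x⁻¹ * y⁻¹ ∈ frat E :=
  ⟨⟨x, hx⟩ * ⟨y, hy⟩ * (⟨x, hx⟩ : E)⁻¹ * (⟨y, hy⟩ : E)⁻¹,
    (CfsgLib.PGroupBasic.commutator_pow_le_frattini hE).1
      (commutator_mem_commutator (mem_top (⟨x, hx⟩ : E)) (mem_top (⟨y, hy⟩ : E))), rfl⟩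

theorem mem_normalizer_sup {A B : Subgroup G} {g : G} (hA : g ∈ normalizer (A : Set G))
    (hB : g ∈ normalizer (B : Set G)) : g ∈ normalizer ((A ⊔ B : Subgroup G) : Set G) := by
  rw [mem_normalizer_iff_map_conj_eq] at hA hB ⊢
  rw [Subgroup.map_sup, hA, hB]

theorem mem_normalizer_inf {A B : Subgroup G} {g : G} (hA : g ∈ normalizer (A : Set G))
    (hB : g ∈ normalizer (B : Set G)) : g ∈ normalizer ((A ⊓ B : Subgroup G) : Set G) :=
  mem_normalizer_iff.2 fun x => by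
    rw [mem_inf, mem_inf, mem_normalizer_iff.1 hA x, mem_normalizer_iff.1 hB x]

/-- The unipotent lemma. -/
theorem unipotent {r : ℕ} [Fact r.Prime] (hr : r ≠ 2) {E : Subgroup G} (hE : IsPGroup r E)
    {u v z : G} (hu : u * u = 1) (hv : v * v = 1) (huv : Commute u v)
    (huE : u ∈ normalizer (E : Set G)) (hvE : v ∈ normalizer (E : Set G))
    (hzE : z ∈ normalizer (E : Set G)) (hzo : Odd (orderOf z)) (hzu : u * z * u = z⁻¹)
    (hzw : Commute z (u * v)) (hfix : ∀ x ∈ E, Commute x v → Commute z x) :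
    (∀ e ∈ E, z * (z * e * z⁻¹ * e⁻¹) * z⁻¹ * (z * e * z⁻¹ * e⁻¹)⁻¹ ∈ frat E) ∧
      ((orderOf z).Coprime r → ∀ e ∈ E, Commute z e) := by
  set Φ := frat E with hΦ
  set Cv := E ⊓ centralizer ({v} : Set G) with hCv
  set Φ0 := Cv ⊔ Φ with hΦ0
  have hEo : Odd (Nat.card E) := by
    obtain ⟨k, hk⟩ := IsPGroup.iff_card.1 hE
    rw [hk]; exact ((Fact.out : r.Prime).odd_of_ne_two hr).pow
  have hΦ0E : Φ0 ≤ E := sup_le inf_le_left (frat_le E)
  have hEn : E ≤ normalizer (Φ0 : Set G) := fun e he => by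
    have key : ∀ g ∈ E, ∀ f ∈ Φ0, g * f * g⁻¹ ∈ Φ0 := fun g hg f hf => by
      rw [show g * f * g⁻¹ = g * f * g⁻¹ * f⁻¹ * f by group]
      exact mul_mem (mem_sup_right (comm_mem_frat hE hg (hΦ0E hf))) hf
    exact mem_normalizer_iff.2 fun f => ⟨key e he f, fun h => by
      simpa [mul_assoc] using key e⁻¹ (inv_mem he) _ h⟩
  have hvC : ∀ {g : G}, Commute g v → g ∈ normalizer (centralizer ({v} : Set G) : Set G) :=
    fun h => le_normalizer (mem_centralizer_singleton_iff.2 h.eq)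
  have huN : u ∈ normalizer (Φ0 : Set G) :=
    mem_normalizer_sup (mem_normalizer_inf huE (hvC huv)) (normalizer_le_frat E huE)
  have hvN : v ∈ normalizer (Φ0 : Set G) :=
    mem_normalizer_sup (mem_normalizer_inf hvE (hvC (Commute.refl v))) (normalizer_le_frat E hvE)
  have hzN : z ∈ normalizer (Φ0 : Set G) := mem_normalizer_sup
    (centralizer_le_normalizer _ (mem_centralizer_iff.2 fun x hx =>
      (hfix x hx.1 (mem_centralizer_singleton_iff.1 hx.2)).eq.symm)) (normalizer_le_frat E hzE)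
  set M := normalizer (Φ0 : Set G) with hM
  haveI : (Φ0.subgroupOf M).Normal := (normal_subgroupOf_iff_le_normalizer le_normalizer).2 le_rfl
  set π := QuotientGroup.mk' (Φ0.subgroupOf M) with hπ
  have heq : ∀ {x y : M}, π x = π y ↔ (x : G)⁻¹ * y ∈ Φ0 := fun {x y} => by
    rw [hπ, QuotientGroup.mk'_apply, QuotientGroup.mk'_apply, QuotientGroup.eq, mem_subgroupOf]
    simp
  let U : M := ⟨u, huN⟩
  let Z : M := ⟨z, hzN⟩
  -- `v` inverts modulo `Φ0`
  have hvinv : ∀ e ∈ E, e * (v * e * v) ∈ Φ0 := by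
    intro e he
    obtain ⟨f, hf, i, hi, hfv, hiv, rfl⟩ := exists_split hv hEo hvE he
    have hfΦ : f ∈ Φ0 := mem_sup_left ⟨hf, mem_centralizer_singleton_iff.2 hfv.eq⟩
    rw [invol_mul hv, conj_eq_of_commute hv hfv, hiv,
      show f * i * (f * i⁻¹) = f * (i * f * i⁻¹) by group]
    exact mul_mem hfΦ ((mem_normalizer_iff.1 (hEn hi) f).1 hfΦ)
  -- `z` centralises modulo `Φ0`
  have hZc : ∀ e ∈ E, (he : e ∈ M) → Commute (π Z) (π ⟨e, he⟩) := by
    have hw2 : u * v * (u * v) = 1 := by rw [huv.symm.mul_mul_mul_comm, hu, hv, one_mul]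
    have hwE : u * v ∈ normalizer (E : Set G) := mul_mem huE hvE
    have hz2 : Odd (orderOf (π Z)) :=
      hzo.of_dvd_nat ((orderOf_map_dvd π Z).trans (Subgroup.orderOf_coe Z).symm.dvd)
    have hUZ : π U * π Z * π U = (π Z)⁻¹ := by
      rw [← map_mul, ← map_mul, ← map_inv]; exact congrArg π (Subtype.ext hzu)
    have hUU : π U * π U = 1 := by
      rw [← map_mul, ← map_one π]; exact congrArg π (Subtype.ext hu)
    -- on either eigenspace of `u v` the involution `u` is a scalar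
    have hfixed : ∀ e ∈ E, Commute e (u * v) → ∀ he : e ∈ M, π U * π ⟨e, he⟩ * π U = (π ⟨e, he⟩)⁻¹ := by
      intro e heE hew he
      rw [← map_mul, ← map_mul, ← map_inv, heq]
      have h1 : u * e * u = v * e * v := by
        have h2 := conj_eq_of_commute hw2 hew
        calc u * e * u = u * (u * v * e * (u * v)) * u := by rw [h2]
          _ = u * u * (v * e * v) * (v * (u * v) * u) := by
              simp only [mul_assoc, ← mul_assoc v v, hv, one_mul]
          _ = v * e * v := by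
              rw [← mul_assoc v u v, ← huv.eq, mul_assoc u v v, hv, mul_one, hu, one_mul, mul_one]
      show (u * e * u)⁻¹ * e⁻¹ ∈ Φ0
      rw [h1, ← mul_inv_rev]
      exact inv_mem (hvinv e heE)
    have hinv : ∀ e ∈ E, u * v * e * (u * v) = e⁻¹ → ∀ he : e ∈ M,
        π U * π ⟨e, he⟩ * π U = π ⟨e, he⟩ := by
      intro e heE hew he
      rw [← map_mul, ← map_mul, heq]
      have h1 : u * e * u = v * e⁻¹ * v := by
        calc u * e * u = v * (v * u * e * (u * v)) * v := by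
              simp only [mul_assoc, hv, mul_one]; simp only [← mul_assoc v v, hv, one_mul]
          _ = v * e⁻¹ * v := by rw [← huv.eq, hew]
      show (u * e * u)⁻¹ * e ∈ Φ0
      rw [h1, invol_inv hv, inv_inv]
      have h3 := hvinv e heE
      have h4 := (mem_normalizer_iff.1 (hEn (inv_mem heE)) _).1 h3
      rwa [show e⁻¹ * (e * (v * e * v)) * e⁻¹⁻¹ = v * e * v * e by group] at h4
    have step : ∀ (X Z' W : M ⧸ Φ0.subgroupOf M), W * W = 1 → W * Z' * W = Z'⁻¹ → Odd (orderOf Z') →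
        ((W * X * W = X⁻¹ ∧ W * (Z' * X * Z'⁻¹) * W = (Z' * X * Z'⁻¹)⁻¹) ∨
          (W * X * W = X ∧ W * (Z' * X * Z'⁻¹) * W = Z' * X * Z'⁻¹)) → Commute Z' X := by
      intro X Z' W hW hWZ hZo h
      refine commute_of_sq hZo ?_
      rcases h with ⟨h1, h2⟩ | ⟨h1, h2⟩ <;>
        rw [invol_mul hW, invol_mul hW, invol_inv hW, hWZ, inv_inv, h1] at h2
      · have h3 := congrArg Inv.inv h2
        simp only [mul_inv_rev, inv_inv] at h3
        show Z' * Z' * X = X * (Z' * Z')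
        calc Z' * Z' * X = Z' * (Z' * X * Z'⁻¹) * Z' := by group
          _ = Z' * (Z'⁻¹ * (X * Z')) * Z' := by rw [h3]
          _ = _ := by group
      · show Z' * Z' * X = X * (Z' * Z')
        calc Z' * Z' * X = Z' * (Z' * X * Z'⁻¹) * Z' := by group
          _ = Z' * (Z'⁻¹ * X * Z') * Z' := by rw [h2]
          _ = _ := by group
    have hsub : ∀ x ∈ E, ∀ hx : x ∈ M, z * x * z⁻¹ ∈ M := fun x hx _ => hEn (conj_mem hzE hx)
    intro e heE he
    obtain ⟨f, hf, i, hi, hfw, hiw, hfi⟩ := exists_split hw2 hEo hwE heE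
    have hzf : Commute (z * f * z⁻¹) (u * v) := (hzw.mul_left hfw).mul_left hzw.inv_left
    have h1 : Commute (π Z) (π ⟨f, hEn hf⟩) := step _ _ _ hUU hUZ hz2 (Or.inl
      ⟨hfixed f hf hfw _, by
        rw [← map_inv, ← map_mul, ← map_mul]
        exact hfixed _ (conj_mem hzE hf) hzf _⟩)
    have h2 : Commute (π Z) (π ⟨i, hEn hi⟩) := step _ _ _ hUU hUZ hz2 (Or.inr
      ⟨hinv i hi hiw _, by
        rw [← map_inv, ← map_mul, ← map_mul]
        exact hinv _ (conj_mem hzE hi) (inverted_conj hw2 hzw hiw) _⟩)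
    have h3 := h1.mul_right h2
    rwa [← map_mul, show (⟨f, hEn hf⟩ : M) * ⟨i, hEn hi⟩ = ⟨e, he⟩ from Subtype.ext hfi.symm] at h3
  have hd : ∀ e ∈ E, z * e * z⁻¹ * e⁻¹ ∈ Φ0 := by
    intro e he
    have h := hZc e he (hEn he)
    have h1 : π (Z * ⟨e, hEn he⟩ * Z⁻¹ * (⟨e, hEn he⟩ : M)⁻¹) = 1 := by
      rw [map_mul, map_mul, map_mul, map_inv, map_inv, h.eq, mul_inv_cancel_right, mul_inv_cancel]
    have h2 := (QuotientGroup.eq_one_iff _).1 h1
    exact h2
  have hzΦ : ∀ d ∈ Φ0, z * d * z⁻¹ * d⁻¹ ∈ Φ := by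
    intro d hd'
    have hCn : Cv ≤ normalizer (Φ : Set G) := fun x hx => normalizer_le_frat E (le_normalizer hx.1)
    obtain ⟨x, hx, φ, hφ, rfl⟩ := (CfsgLib.Solvable.mem_sup_of_le_normalizer hCn).1 hd'
    have hzx := hfix x hx.1 (mem_centralizer_singleton_iff.1 hx.2)
    rw [show z * (x * φ) * z⁻¹ * (x * φ)⁻¹ = z * x * z⁻¹ * (z * φ * z⁻¹ * φ⁻¹) * x⁻¹ by group,
      hzx.eq, mul_inv_cancel_right]
    exact conj_mem (hCn hx)
      (mul_mem (conj_mem (normalizer_le_frat E hzE) hφ) (inv_mem hφ))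
  refine ⟨fun e he => hzΦ _ (hd e he), fun hcop => ?_⟩
  -- an element of order prime to `r` centralises
  set N := normalizer (Φ : Set G) with hN
  haveI : (Φ.subgroupOf N).Normal := (normal_subgroupOf_iff_le_normalizer le_normalizer).2 le_rfl
  set ψ := QuotientGroup.mk' (Φ.subgroupOf N) with hψ
  let Z₁ : N := ⟨z, normalizer_le_frat E hzE⟩
  have hEN : E ≤ N := fun e he => normalizer_le_frat E (le_normalizer he)
  have hcomm : ∀ e, (he : e ∈ E) → Commute (ψ Z₁) (ψ ⟨e, hEN he⟩) := by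
    intro e he
    set d := z * e * z⁻¹ * e⁻¹ with hdd
    have hdE : d ∈ E := hΦ0E (hd e he)
    let D₁ : N := ⟨d, hEN hdE⟩
    let E₁ : N := ⟨e, hEN he⟩
    have hZD : Commute (ψ Z₁) (ψ D₁) := by
      have h1 : ψ (Z₁ * D₁ * Z₁⁻¹ * D₁⁻¹) = 1 := (QuotientGroup.eq_one_iff _).2 (hzΦ d (hd e he))
      rw [map_mul, map_mul, map_mul, map_inv, map_inv, mul_inv_eq_one] at h1
      exact mul_inv_eq_iff_eq_mul.1 h1
    have hrel : ψ Z₁ * ψ E₁ * (ψ Z₁)⁻¹ = ψ D₁ * ψ E₁ := by
      rw [← map_inv, ← map_mul, ← map_mul, ← map_mul]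
      refine congrArg ψ (Subtype.ext ?_)
      show z * e * z⁻¹ = z * e * z⁻¹ * e⁻¹ * e
      group
    have hpow : ∀ n : ℕ, ψ Z₁ ^ n * ψ E₁ * (ψ Z₁ ^ n)⁻¹ = ψ D₁ ^ n * ψ E₁ := by
      intro n
      induction n with
      | zero => simp
      | succ n ih =>
        rw [pow_succ', show ψ Z₁ * ψ Z₁ ^ n * ψ E₁ * (ψ Z₁ * ψ Z₁ ^ n)⁻¹ =
          ψ Z₁ * (ψ Z₁ ^ n * ψ E₁ * (ψ Z₁ ^ n)⁻¹) * (ψ Z₁)⁻¹ by group, ih,
          show ψ Z₁ * (ψ D₁ ^ n * ψ E₁) * (ψ Z₁)⁻¹ =
            ψ Z₁ * ψ D₁ ^ n * (ψ E₁ * (ψ Z₁)⁻¹) by group, (hZD.pow_right n).eq,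
          show ψ D₁ ^ n * ψ Z₁ * (ψ E₁ * (ψ Z₁)⁻¹) = ψ D₁ ^ n * (ψ Z₁ * ψ E₁ * (ψ Z₁)⁻¹) by group,
          hrel, pow_succ, mul_assoc]
    have h1 := hpow (orderOf z)
    rw [← map_pow, show Z₁ ^ orderOf z = 1 from Subtype.ext (pow_orderOf_eq_one z), map_one,
      one_mul, inv_one, mul_one] at h1
    obtain ⟨k, hk⟩ := exists_pow_of_isPGroup hE hdE
    have hD1 : ψ D₁ = 1 := orderOf_eq_one_iff.1 (Nat.eq_one_of_dvd_coprimes
      (hcop.pow_right k) (orderOf_dvd_of_pow_eq_one (mul_eq_right.1 h1.symm))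
      (orderOf_dvd_of_pow_eq_one (by
        rw [← map_pow, show D₁ ^ r ^ k = 1 from Subtype.ext hk, map_one])))
    rw [hD1, one_mul] at hrel
    exact mul_inv_eq_iff_eq_mul.1 hrel
  have hcopΦ : (Nat.card (zpowers z)).Coprime (Nat.card (frattini E)) := by
    obtain ⟨j, hj⟩ := IsPGroup.iff_card.1 (hE.to_subgroup (frattini E))
    rw [Nat.card_zpowers, hj]
    exact hcop.pow_right j
  have := CfsgLib.CoprimeAct.trivial_on_frattini_quotient (A := zpowers z) (K := E)
    (zpowers_le.2 hzE) hcopΦ (by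
      rintro _ ⟨i, rfl⟩ e he
      have h := ((hcomm e he).zpow_left i).eq
      have h1 : ψ (Z₁ ^ i * ⟨e, hEN he⟩ * (Z₁ ^ i)⁻¹ * (⟨e, hEN he⟩ : N)⁻¹) = 1 := by
        rw [map_mul, map_mul, map_mul, map_inv, map_inv, map_zpow, h, mul_inv_cancel_right,
          mul_inv_cancel]
      have h2 := (QuotientGroup.eq_one_iff _).1 h1
      simpa [Z₁, mem_subgroupOf, frat, hΦ] using h2)
  exact fun e he => (mem_centralizer_iff.1 (this (mem_zpowers z)) e he).symm

/-- A `p`-element of a core, centralising its `O_q` for `q ≠ p` and quadratic on `O_p` modulo the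
Frattini subgroup, lies in `O_p`. -/
theorem mem_Op_of_quadratic {p : ℕ} [Fact p.Prime] (hp : p ≠ 2) {X : Subgroup G} {z : G}
    (hz : z ∈ coreIn X) (hzp : ∃ k, z ^ p ^ k = 1)
    (hoth : ∀ q : ℕ, q.Prime → q ≠ p → ∀ x ∈ Op q X, Commute x z)
    (hquad : ∀ e ∈ Op p X,
      z * (z * e * z⁻¹ * e⁻¹) * z⁻¹ * (z * e * z⁻¹ * e⁻¹)⁻¹ ∈ frat (Op p X)) :
    z ∈ Op p X := by
  set R := coreIn X with hR
  set E := Op p X with hE
  set Φ := frat E with hΦ
  have hRE : R ≤ normalizer (E : Set G) := CfsgLib.DGroup.coreIn_le_normalizer_Op p X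
  haveI hΦn : (Φ.subgroupOf R).Normal :=
    (normal_subgroupOf_iff_le_normalizer ((frat_le E).trans (CfsgLib.DGroup.Op_le p X))).2
      (hRE.trans (normalizer_le_frat E))
  set π := QuotientGroup.mk' (Φ.subgroupOf R) with hπ
  haveI hEn : (E.subgroupOf R).Normal :=
    (normal_subgroupOf_iff_le_normalizer (CfsgLib.DGroup.Op_le p X)).2 hRE
  set P := (E.subgroupOf R).map π with hP
  haveI : P.Normal := Normal.map hEn π (QuotientGroup.mk'_surjective _)
  let Z : R := ⟨z, hz⟩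
  -- quadratic action
  have hq : ⁅⁅P, zpowers (π Z)⁆, zpowers (π Z)⁆ = ⊥ := by
    rw [commutator_eq_bot_iff_le_centralizer, commutator_le]
    rintro _ ⟨x, hx, rfl⟩ _ ⟨i, rfl⟩
    set d := π x * π Z * (π x)⁻¹ * (π Z)⁻¹ with hd
    have hdc : Commute (π Z) d := by
      have h1 : π (Z * (Z * x * Z⁻¹ * x⁻¹) * Z⁻¹ * (Z * x * Z⁻¹ * x⁻¹)⁻¹) = 1 :=
        (QuotientGroup.eq_one_iff _).2 (hquad x hx)
      simp only [map_mul, map_inv] at h1
      have h2 : Commute (π Z) (π Z * π x * (π Z)⁻¹ * (π x)⁻¹) :=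
        mul_inv_eq_iff_eq_mul.1 (mul_inv_eq_one.1 h1)
      have h3 := h2.inv_right
      rwa [show (π Z * π x * (π Z)⁻¹ * (π x)⁻¹)⁻¹ = d by rw [hd]; group] at h3
    have hxi : ⁅π x, π Z ^ i⁆ = d ^ i := by
      have h1 : π x * π Z ^ i * (π x)⁻¹ = d ^ i * π Z ^ i := by
        rw [← hdc.symm.mul_zpow, ← conj_zpow,
          show π x * π Z * (π x)⁻¹ = d * π Z by rw [hd]; group]
      rw [commutatorElement_def, h1, mul_inv_cancel_right]
    refine mem_centralizer_iff.2 ?_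
    rintro _ ⟨j, rfl⟩
    show π Z ^ j * ⁅π x, π Z ^ i⁆ = ⁅π x, π Z ^ i⁆ * π Z ^ j
    rw [hxi]
    exact ((hdc.zpow_zpow j i)).eq
  have hfree : ¬ Cfsg.Involves ↥(Cfsg.qd p) (R ⧸ Φ.subgroupOf R) :=
    not_involves_qd hp fun h => by
      have := (CfsgLib.DGroup.odd_coreIn X).of_dvd_nat (h.trans (card_quotient_dvd_card _))
      exact absurd this (by decide)
  obtain ⟨Dq, hDq, hzDq, hDqp⟩ := CfsgLib.ZJ.pcoreMod_of_quadratic hp hfree P
    (((CfsgLib.DGroup.isPGroup_Op p X).comap_subtype (K := R)).map π) (π Z) hq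
  -- centralising the other `O_q`
  set S : Set G := {x | ∃ q : ℕ, q.Prime ∧ q ≠ p ∧ x ∈ Op q X} with hS
  set K := (centralizer S).subgroupOf R with hK
  haveI hKn : K.Normal := by
    refine ⟨fun k hk g => mem_centralizer_iff.2 ?_⟩
    rintro x ⟨q, hq, hqp, hx⟩
    haveI : Fact q.Prime := ⟨hq⟩
    have hgn := CfsgLib.DGroup.coreIn_le_normalizer_Op q X g.2
    have h1 : Commute ((g : G)⁻¹ * x * g) (k : G) :=
      mem_centralizer_iff.1 hk _ ⟨q, hq, hqp, conj_mem' hgn hx⟩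
    have h2 := (Commute.conj_iff (g : G)).2 h1
    rw [show (g : G) * ((g : G)⁻¹ * x * g) * (g : G)⁻¹ = x by group] at h2
    simpa using h2.eq
  set D0 := Dq.comap π ⊓ K with hD0
  haveI hD0n : D0.Normal := by
    haveI : (Dq.comap π).Normal := hDq.comap π
    rw [hD0]; infer_instance
  have hzD0 : Z ∈ D0 := ⟨hzDq, mem_centralizer_iff.2 fun x ⟨q, hq, hqp, hx⟩ => (hoth q hq hqp x hx).eq⟩
  -- the elements of order prime to `p` are central
  have hcentral : ∀ (q : ℕ), q.Prime → q ≠ p → ∀ x : D0, (∃ k, x ^ q ^ k = 1) → x ∈ center D0 := by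
    intro q hq hqp x hxq
    haveI : Fact q.Prime := ⟨hq⟩
    obtain ⟨k, hk⟩ := hxq
    set y : G := ((x : R) : G) with hy
    have hyk : y ^ q ^ k = 1 := congrArg (fun t : D0 => ((t : R) : G)) hk
    obtain ⟨j, hj⟩ := hDqp _ x.2.1
    have hcopq : (orderOf y).Coprime (p ^ j) :=
      (CfsgLib.DGroup.orderOf_coprime ⟨k, hyk⟩ hqp).pow_right j
    -- trivial on `O_p` modulo Frattini
    have hyP : π (x : R) ∈ centralizer (P : Set (R ⧸ Φ.subgroupOf R)) := by
      obtain ⟨i, hi⟩ := exists_pow_eq_self_of_coprime (x := π (x : R)) (n := p ^ j)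
        (hcopq.symm.coprime_dvd_right ((orderOf_map_dvd π _).trans
          (Subgroup.orderOf_coe (x : R)).symm.dvd))
      rw [← hi]; exact pow_mem hj i
    have hyE : y ∈ normalizer (E : Set G) := hRE (x : R).2
    have hall : ∀ r : ℕ, r.Prime → ∀ e ∈ Op r X, Commute e y := by
      intro r hr e he
      by_cases hrp : r = p
      swap
      · exact mem_centralizer_iff.1 x.2.2 e ⟨r, hr, hrp, he⟩
      subst hrp
      have hcopΦ : (Nat.card (zpowers y)).Coprime (Nat.card (frattini E)) := by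
        obtain ⟨i, hi⟩ := IsPGroup.iff_card.1 ((CfsgLib.DGroup.isPGroup_Op r X).to_subgroup (frattini E))
        rw [Nat.card_zpowers, hi]
        exact (CfsgLib.DGroup.orderOf_coprime ⟨k, hyk⟩ hqp).pow_right i
      have := CfsgLib.CoprimeAct.trivial_on_frattini_quotient (A := zpowers y) (K := E)
        (zpowers_le.2 hyE) hcopΦ (by
          rintro _ ⟨i, rfl⟩ e' he'
          let e₁ : R := ⟨e', CfsgLib.DGroup.Op_le r X he'⟩
          have h : Commute (π e₁) (π (x : R)) :=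
            mem_centralizer_iff.1 hyP _ ⟨e₁, he', rfl⟩
          have h1 : π ((x : R) ^ i * e₁ * ((x : R) ^ i)⁻¹ * e₁⁻¹) = 1 := by
            rw [map_mul, map_mul, map_mul, map_inv, map_inv, map_zpow,
              ((h.zpow_right i).symm).eq, mul_inv_cancel_right, mul_inv_cancel]
          have h2 := (QuotientGroup.eq_one_iff _).1 h1
          simpa [hy, e₁, mem_subgroupOf, frat, hΦ] using h2)
      exact mem_centralizer_iff.1 (this (mem_zpowers y)) e he
    have hyO := CfsgLib.DGroup.mem_Op_of_commute (p := q) (x : R).2 ⟨k, hyk⟩ hall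
    refine mem_center_iff.2 fun d => Subtype.ext (Subtype.ext ?_)
    exact (mem_centralizer_iff.1 d.2.2 y ⟨q, hq, hqp, hyO⟩).symm
  -- the Sylow `p`-subgroup is normal
  obtain ⟨T⟩ : Nonempty (Sylow p D0) := inferInstance
  have hTn : (T : Subgroup D0).Normal := by
    rw [← normalizer_eq_top_iff, ← index_eq_one]
    by_contra h1
    obtain ⟨q, hq, hqd⟩ := Nat.exists_prime_and_dvd h1
    haveI : Fact q.Prime := ⟨hq⟩
    by_cases hqp : q = p
    · subst hqp
      exact T.not_dvd_index (hqd.trans (index_dvd_of_le le_normalizer))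
    · obtain ⟨Sq⟩ : Nonempty (Sylow q D0) := inferInstance
      have hle : (Sq : Subgroup D0) ≤ normalizer ((T : Subgroup D0) : Set D0) := fun x hx => by
        refine centralizer_le_normalizer _ (mem_centralizer_iff.2 fun t _ => ?_)
        obtain ⟨k, hk⟩ := Sq.2 ⟨x, hx⟩
        exact mem_center_iff.1 (hcentral q hq hqp x ⟨k, congrArg Subtype.val hk⟩) t
      exact Sq.not_dvd_index (hqd.trans (index_dvd_of_le hle))
  haveI := Sylow.characteristic_of_normal T hTn
  obtain ⟨k, hk⟩ := hzp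
  have hzT : (⟨Z, hzD0⟩ : D0) ∈ (T : Subgroup D0) := by
    haveI := hTn
    obtain ⟨j, -, hj⟩ := (Nat.dvd_prime_pow (Fact.out : p.Prime)).1 (orderOf_dvd_of_pow_eq_one hk)
    have hp' : IsPGroup p (zpowers (⟨Z, hzD0⟩ : D0)) := IsPGroup.of_card (n := j) (by
      rw [Nat.card_zpowers, ← Subgroup.orderOf_coe, ← Subgroup.orderOf_coe]; exact hj)
    exact (T.3 (hp'.to_sup_of_normal_right T.2) le_sup_right).le (mem_sup_left (mem_zpowers _))
  set N := (T : Subgroup D0).map D0.subtype with hN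
  haveI hNn : N.Normal := inferInstance
  have hsub : N.map R.subtype ≤ LocalB.opIn p R := LocalB.le_opIn (map_subtype_le _)
    ((T.2.map _).map _) (fun g hg => le_normalizer_map R.subtype
      ⟨⟨g, hg⟩, by rw [normalizer_eq_top (H := N)]; exact mem_top _, rfl⟩)
  exact hsub ⟨Z, ⟨⟨Z, hzD0⟩, hzT, rfl⟩, rfl⟩

end CfsgLib.GW.CaseI
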