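import Cfsg.Agent.GW.CaseI.Fusion
import Cfsg.Agent.GW.CaseI.PSLTorus
import Cfsg.Agent.GW.CaseI.Torus
import Cfsg.Agent.DGroup.Core

/-!
# A proper subgroup with fusion in the four group: covering and the torus
-/

set_option autoImplicit false
set_option linter.style.haveILetI false
set_option linter.unusedSectionVars false

namespace CfsgLib.GW.CaseII

open Subgroup
open CfsgLib.SL2C (SL mt negOne IsTorus)
open CfsgLib.Linear.SmallSub (proj P2)
open CfsgLib.Linear.FourGroups (proj_surj proj_eq_one proj_involution_iff involutions_conj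
  exists_torus not_center_of_trace_zero)
open CfsgLib.DGroup (eq_one_of_sq)

theorem psl_cent_aux {F : Type*} [Field F] [Fintype F] (hodd : Odd (Fintype.card F))
    {T : Subgroup (SL F)} (hT : IsTorus T) {y : SL F} (hy : y ∈ T) (htr : (mt y).trace = 0)
    {τ χ : SL F} (h1 : Commute (proj τ) (proj y)) (ho : Odd (orderOf (proj τ)))
    (hne : proj τ ≠ 1) (h2 : Commute (proj τ) (proj χ)) : Commute (proj χ) (proj y) := by
  have hcen : ∀ {r s : SL F}, Commute (proj r) (proj s) → r * s * r⁻¹ * s⁻¹ ∈ T := fun {r s} h =>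
    hT.center_le (proj_eq_one.1 (by
      simp only [map_mul, map_inv]
      rw [h.eq]; group))
  have hyc : y ∉ Subgroup.center (SL F) := not_center_of_trace_zero hodd htr
  have hτN := hT.mem_normalizer_of_mem hy hyc (g := τ) (by
    have := mul_mem (hcen h1) hy
    rwa [inv_mul_cancel_right] at this)
  have hτT : τ ∈ T := by
    by_contra h
    refine hne (eq_one_of_sq ?_ ho)
    rw [← map_mul, hT.sq_eq_negOne hodd hτN h]
    exact proj_eq_one.2 CfsgLib.SL2C.negOne_mem_center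
  have hτc : τ ∉ Subgroup.center (SL F) := fun h => hne (proj_eq_one.2 h)
  have hχN := hT.mem_normalizer_of_mem hτT hτc (g := χ) (by
    have := mul_mem (hcen h2.symm) hτT
    rwa [inv_mul_cancel_right] at this)
  rcases hT.normalizer_dichotomy hχN with h | h
  · show proj χ * proj y = proj y * proj χ
    rw [← map_mul, ← map_mul, hT.comm h hy]
  · exfalso
    have h3 := congrArg proj (h τ hτT)
    simp only [map_mul, map_inv] at h3
    rw [h2.symm.eq, mul_inv_cancel_right] at h3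
    exact hne (CfsgLib.DGroup.eq_one_of_inv_eq h3.symm ho)

/-- In `PSL₂(q)`, `q` odd, whatever commutes with a nontrivial element of odd order in the
centraliser of an involution centralises that involution. -/
theorem psl_cent {F : Type*} [Field F] [Fintype F] (hodd : Odd (Fintype.card F))
    {z t x : P2 F} (hz : z * z = 1) (hz1 : z ≠ 1) (htz : Commute t z) (ht : Odd (orderOf t))
    (ht1 : t ≠ 1) (htx : Commute t x) : Commute x z := by
  obtain ⟨T, y, hT, hy, htr, -⟩ := exists_torus (F := F) hodd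
  obtain ⟨h1, h1'⟩ := (proj_involution_iff hodd y).2 htr
  obtain ⟨g, hg⟩ := isConj_iff.1 (involutions_conj hodd hz hz1 h1 h1')
  obtain ⟨τ, hτ⟩ := proj_surj (g * t * g⁻¹)
  obtain ⟨χ, hχ⟩ := proj_surj (g * x * g⁻¹)
  have h := psl_cent_aux hodd hT hy htr (τ := τ) (χ := χ)
    (by rw [hτ, ← hg]; exact (Commute.conj_iff g).2 htz)
    (by rw [hτ, CfsgLib.Invol.orderOf_conj_eq]; exact ht)
    (by rw [hτ, Ne, conj_eq_one_iff]; exact ht1)
    (by rw [hτ, hχ]; exact (Commute.conj_iff g).2 htx)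
  rw [hχ, ← hg] at h
  exact (Commute.conj_iff g).1 h

end CfsgLib.GW.CaseII

namespace CfsgLib.GW.CaseI.Ctx

open Subgroup
open CfsgLib.DGroup (coreIn conj_mem conj_mem' odd_orderOf eq_one_of_sq eq_one_of_inv_eq)
open CfsgLib.Linear.SmallSub (P2)

universe u

variable {G : Type u} [Group G] [Finite G] (C : Ctx G)
include C

/-- A normal subgroup with an element of odd order outside the core contains `V` and fuses it. -/
theorem cover {L N : Subgroup G} (ha : C.a ∈ L) (hb : C.b ∈ L) (hL : C.Fus L) (hNL : N ≤ L)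
    (hn : L ≤ normalizer (N : Set G)) {x : G} (hx : x ∈ N) (hxo : Odd (orderOf x))
    (hxW : x ∉ coreIn L) : C.V ≤ N ∧ C.Fus N := by
  haveI : Fact (Nat.Prime 2) := ⟨Nat.prime_two⟩
  have hVL : C.V ≤ L := (closure_le _).2 (by rintro z (rfl | rfl); exacts [ha, hb])
  obtain ⟨n, hnL, -, h1, h2, h3⟩ := C.exists_cycle ha hb hL
  have hev : 2 ∣ Nat.card N := by
    rw [← even_iff_two_dvd, ← Nat.not_odd_iff_even]
    exact fun h => hxW (CfsgLib.DGroup.le_coreIn hNL hn h hx)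
  obtain ⟨v, hv⟩ := exists_prime_orderOf_dvd_card' 2 hev
  have hvI : CfsgLib.NormCyclic.Inv (v : G) := by
    rw [← Subgroup.orderOf_coe] at hv
    refine ⟨?_, fun h => ?_⟩
    · have := pow_orderOf_eq_one (v : G)
      rwa [hv, pow_two] at this
    · rw [h, orderOf_one] at hv; omega
  obtain ⟨S, hS⟩ := C.exists_sylow_V
  let SL' : Sylow 2 L := S.subtype (hS ▸ hVL)
  obtain ⟨R, hR⟩ := (IsPGroup.of_card (p := 2) (n := 1) (by
    rw [Nat.card_zpowers, ← Subgroup.orderOf_coe, hvI.orderOf, pow_one]) :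
    IsPGroup 2 (zpowers (⟨v, hNL v.2⟩ : L))).exists_le_sylow
  obtain ⟨g, hg⟩ := MulAction.exists_smul_eq L R SL'
  have hgV : ((g * ⟨v, hNL v.2⟩ * g⁻¹ : L) : G) ∈ C.V := by
    have : g * ⟨v, hNL v.2⟩ * g⁻¹ ∈ (SL' : Subgroup L) := by
      rw [← hg]; exact ⟨⟨v, hNL v.2⟩, hR (mem_zpowers _), rfl⟩
    exact hS ▸ this
  have hgN : ((g * ⟨v, hNL v.2⟩ * g⁻¹ : L) : G) ∈ N := conj_mem (hn g.2) v.2
  have hrot : ∀ {z w : G}, n * z * n⁻¹ = w → z ∈ N → w ∈ N := fun {z w} e hz =>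
    e ▸ conj_mem (hn hnL) hz
  have hab : C.a ∈ N ∧ C.b ∈ N := by
    rcases C.mem_V.1 hgV with e | e | e | e <;> rw [e] at hgN
    · exact absurd (conj_eq_one_iff.1 e) hvI.2
    · exact ⟨hgN, hrot h1 hgN⟩
    · exact ⟨hrot h3 (hrot h2 hgN), hgN⟩
    · exact ⟨hrot h3 hgN, hrot h1 (hrot h3 hgN)⟩
  have hVN : C.V ≤ N := (closure_le _).2 (by rintro z (rfl | rfl); exacts [hab.1, hab.2])
  refine ⟨hVN, by_contra fun hF => ?_⟩
  obtain ⟨K, hKN, -, hKo, hall⟩ := C.exists_compl hVN hF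
  refine hxW (CfsgLib.DGroup.le_coreIn (hKN.trans hNL) (fun k hk => ?_) hKo (hall x hx hxo))
  have key : ∀ k ∈ L, ∀ r ∈ K, k * r * k⁻¹ ∈ K := fun k hk r hr =>
    hall _ (conj_mem (hn hk) (hKN hr)) (by
      rw [CfsgLib.Invol.orderOf_conj_eq]; exact odd_orderOf hKo hr)
  exact mem_normalizer_iff.2 fun r => ⟨key k hk r, fun hr => by
    simpa [mul_assoc] using key k⁻¹ (inv_mem hk) _ hr⟩

/-- Torus: an odd element inverted by `a`, commuting with `b` and with its conjugate under a cycle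
of `V` in `L`, lies in the core of `L`. -/
theorem mem_coreIn_of_torus {L : Subgroup G} (hL : L ≠ ⊤) (ha : C.a ∈ L) (hb : C.b ∈ L)
    {n : G} (hn : n ∈ L) (hna : n * C.a * n⁻¹ = C.b) (hnb : n * C.b * n⁻¹ = C.c)
    (hnc : n * C.c * n⁻¹ = C.a) {y : G} (hy : y ∈ L) (hyo : Odd (orderOf y))
    (hya : C.a * y * C.a⁻¹ = y⁻¹) (hyb : Commute y C.b)
    (hyz : Commute y (n⁻¹ * y * n)) : y ∈ coreIn L := by
  obtain ⟨L₀, hL₀n, hOL, hLi, F, iF, iFt, hFo, hF8, f, -, hfk⟩ := C.IH L hL ha hb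
    ⟨n, hn, Or.inl hna⟩
  haveI := hL₀n
  set y' := n⁻¹ * y * n with hy'
  have hy'L : y' ∈ L := mul_mem (mul_mem (inv_mem hn) hy) hn
  have hy'o : Odd (orderOf y') := by
    have := CfsgLib.Invol.orderOf_conj_eq n⁻¹ y
    rw [inv_inv] at this
    rwa [hy', this]
  have hsq : ∀ {x v : G}, x ∈ L → Odd (orderOf x) → v ∈ L → v * v = 1 →
      v * x * v⁻¹ = x⁻¹ → ∀ h : x ∈ L, (⟨x, h⟩ : L) ∈ L₀ := by
    intro x v _ ho hv hvv hinv h
    have hvL : (⟨v, hv⟩ : L) ∈ L₀ := CaseI.mem_of_sq_of_odd_index hLi (Subtype.ext hvv)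
    have h2 := mul_mem hvL (hL₀n.conj_mem _ (inv_mem hvL) ⟨x, h⟩)
    have h3 : (⟨v, hv⟩ : L) * (⟨x, h⟩ * (⟨v, hv⟩ : L)⁻¹ * (⟨x, h⟩ : L)⁻¹) = (⟨x, h⟩ ^ 2 : L)⁻¹ :=
      Subtype.ext (by
        show v * (x * v⁻¹ * x⁻¹) = (x ^ 2)⁻¹
        rw [show v * (x * v⁻¹ * x⁻¹) = v * x * v⁻¹ * x⁻¹ by group, hinv, pow_two, mul_inv_rev])
    rw [h3] at h2
    exact CfsgLib.Coprime.mem_of_pow_mem_of_coprime
      (n := 2) (Nat.coprime_two_left.2 (by rwa [Subgroup.orderOf_mk] : Odd (orderOf (⟨x, h⟩ : L)))) (inv_mem_iff.1 h2)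
  have hbb' : n⁻¹ * C.b * n = C.a := by rw [← hna]; group
  have hac' : n⁻¹ * C.a * n = C.c := by rw [← hnc]; group
  have hy'a : Commute y' C.a := by
    have := (Commute.conj_iff n⁻¹).2 hyb
    rwa [inv_inv, hbb'] at this
  have hy'b : C.b * y' * C.b⁻¹ = y'⁻¹ := by
    have h1 : C.c * y' * C.c⁻¹ = y'⁻¹ := by
      rw [← hac', hy', show n⁻¹ * C.a * n * (n⁻¹ * y * n) * (n⁻¹ * C.a * n)⁻¹ =
        n⁻¹ * (C.a * y * C.a⁻¹) * n by group, hya]
      group
    rw [show C.c = C.a * C.b from rfl, show C.a * C.b * y' * (C.a * C.b)⁻¹ = C.a * (C.b * y' * C.b⁻¹) * C.a⁻¹ by group] at h1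
    rw [show C.b * y' * C.b⁻¹ = C.a⁻¹ * y'⁻¹ * C.a by rw [← h1]; group,
      mul_assoc, hy'a.inv_left.eq, inv_mul_cancel_left]
  set t : L₀ := ⟨⟨y', hy'L⟩, hsq hy'L hy'o hb C.hb.1 hy'b hy'L⟩ with ht
  set x : L₀ := ⟨⟨y, hy⟩, hsq hy hyo ha C.ha.1 hya hy⟩ with hx
  set z : L₀ := ⟨⟨C.a, ha⟩, CaseI.mem_of_sq_of_odd_index hLi (Subtype.ext C.ha.1)⟩ with hz
  have hker : ∀ w : L₀, f w = 1 → ((w : L) : G) ∈ coreIn L := fun w hw => by
    rw [← MonoidHom.mem_ker, hfk, mem_subgroupOf] at hw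
    exact ⟨_, hw, rfl⟩
  have hxy : y ∈ coreIn L ∨ f x ≠ 1 := by
    by_cases h : f x = 1
    exacts [Or.inl (hker x h), Or.inr h]
  refine hxy.elim id fun hfx => ?_
  by_cases hft : f t = 1
  · have h := conj_mem (CfsgLib.DGroup.normalizer_coreIn L hn) (hker t hft)
    rwa [show n * ((t : L) : G) * n⁻¹ = y by show n * (n⁻¹ * y * n) * n⁻¹ = y; group] at h
  exfalso
  have hord : ∀ w : L₀, Odd (orderOf ((w : L) : G)) → Odd (orderOf (f w)) := fun w hw =>
    hw.of_dvd_nat ((orderOf_map_dvd f w).trans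
      (by rw [Subgroup.orderOf_coe, Subgroup.orderOf_coe]))
  have hza : f z * f z = 1 := by
    rw [← map_mul, ← map_one f]
    exact congrArg f (Subtype.ext (Subtype.ext C.ha.1))
  have hz1 : f z ≠ 1 := fun h =>
    C.ha.2 (eq_one_of_sq C.ha.1 (odd_orderOf (CfsgLib.DGroup.odd_coreIn L) (hker z h)))
  have htz : Commute (f t) (f z) := Commute.map (Subtype.ext (Subtype.ext hy'a.eq)) f
  have htx : Commute (f t) (f x) := Commute.map (Subtype.ext (Subtype.ext hyz.eq.symm)) f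
  have hxz := CfsgLib.GW.CaseII.psl_cent hFo hza hz1 htz (hord t hy'o) hft htx
  have hinv : f z * f x * (f z)⁻¹ = (f x)⁻¹ := by
    rw [← map_inv, ← map_inv, ← map_mul, ← map_mul]
    exact congrArg f (Subtype.ext (Subtype.ext hya))
  rw [hxz.symm.eq, mul_inv_cancel_right] at hinv
  exact hfx (eq_one_of_inv_eq hinv.symm (hord x hyo))

end CfsgLib.GW.CaseI.Ctx
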