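import Cfsg.Agent.DGroup.Core
import Cfsg.Agent.KGroup.Invariant
import Cfsg.Agent.KGroup.CharP
import Cfsg.Agent.LocalB.CharP

/-!
# Two maximal subgroups: the `P × Q` step and the Bender lemma
-/

set_option autoImplicit false
set_option linter.style.haveILetI false
set_option linter.unusedSectionVars false

namespace CfsgLib.GW.CaseII

open Subgroup
open CfsgLib.DGroup

universe u

variable {G : Type u} [Group G] [Finite G]

theorem mem_inf_eq_one {r s : ℕ} [Fact r.Prime] [Fact s.Prime] (h : r ≠ s) {E F : Subgroup G}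
    (hE : IsPGroup r E) (hF : IsPGroup s F) {x : G} (hx : x ∈ E) (hx' : x ∈ F) : x = 1 :=
  mem_bot.1 (MaxBender.eq_bot_of_isPGroup h (hE.to_le inf_le_left) (hF.to_le inf_le_right) ▸
    (⟨hx, hx'⟩ : x ∈ E ⊓ F))

/-- If `C_E(A)` normalises the `s`-group `F`, the part of `F` centralising the `r`-group `A`
centralises the `r`-group `E`. -/
theorem pxq {r s : ℕ} [Fact r.Prime] [Fact s.Prime] (hrs : r ≠ s) {E A B F : Subgroup G}
    (hE : IsPGroup r E) (hA : IsPGroup r A) (hF : IsPGroup s F) (hBF : B ≤ F)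
    (hAE : A ≤ normalizer (E : Set G)) (hBE : B ≤ normalizer (E : Set G))
    (hAB : ∀ a ∈ A, ∀ b ∈ B, Commute a b)
    (hC : ∀ e ∈ E, (∀ a ∈ A, Commute a e) → e ∈ normalizer (F : Set G)) :
    ∀ e ∈ E, ∀ b ∈ B, Commute b e := by
  intro e he b hb
  obtain ⟨k, hk⟩ := hF ⟨b, hBF hb⟩
  have hk' : b ^ s ^ k = 1 := congrArg Subtype.val hk
  refine LocalB.commute_of_pxq hA hE hAE (orderOf_coprime ⟨k, hk'⟩ hrs.symm) (hBE hb)
    (fun a ha => hAB a ha b hb) (fun x hx hxA => ?_) e he
  have h1 : b * x * b⁻¹ * x⁻¹ ∈ E := mul_mem (conj_mem (hBE hb) hx) (inv_mem hx)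
  have h2 : b * x * b⁻¹ * x⁻¹ ∈ F := by
    rw [show b * x * b⁻¹ * x⁻¹ = b * (x * b⁻¹ * x⁻¹) by group]
    exact mul_mem (hBF hb) (conj_mem (hC x hx hxA) (inv_mem (hBF hb)))
  exact mul_inv_eq_iff_eq_mul.1 (mul_inv_eq_one.1 (mem_inf_eq_one hrs hE hF h1 h2))

/-- A `p'`-element commuting with the subgroup `A` and with `C_F(A)` commutes with the `p`-group
`F`. -/
theorem axb {p : ℕ} [Fact p.Prime] {F A : Subgroup G} (hF : IsPGroup p F) (hA : A ≤ F) {w : G}
    (hw : (orderOf w).Coprime p) (hwF : w ∈ normalizer (F : Set G))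
    (hwA : ∀ a ∈ A, Commute a w)
    (hfix : ∀ x ∈ F, (∀ a ∈ A, Commute a x) → Commute w x) : ∀ x ∈ F, Commute w x :=
  LocalB.commute_of_pxq (hF.to_le hA) hF (hA.trans le_normalizer) hw hwF hwA hfix

/-- Every nontrivial `O_p` of the core has the subgroup as normaliser. -/
def Self (M : Subgroup G) : Prop :=
  ∀ p : ℕ, p.Prime → Op p M ≠ ⊥ → normalizer (Op p M : Set G) = M

/-- For `p ≠ q` an `O_p` lying in another core lies in its `q'`-core. -/
theorem cross {M L : Subgroup G} (hM : Self M) {p q : ℕ} [Fact p.Prime]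
    [Fact q.Prime] (hpq : p ≠ q) (hq : Op q M ≠ ⊥) (hpL : Op p M ≤ coreIn L)
    (hqL : Op q M ≤ coreIn L) :
    Op p M ≤ (Cfsg.pPrimeCore q (coreIn L)).map (coreIn L).subtype := by
  set R := coreIn L with hR
  haveI := solvable_of_odd R (odd_coreIn L)
  have hmem : ∀ {n : R}, n ∈ normalizer (((Op q M).subgroupOf R : Subgroup R) : Set R) →
      (n : G) ∈ normalizer (Op q M : Set G) := fun {n} hn => by
    refine mem_normalizer_iff.2 fun x => ⟨fun hx => ?_, fun hx => ?_⟩
    · exact (mem_normalizer_iff.1 hn ⟨x, hqL hx⟩).1 hx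
    · have hxR : x ∈ R := by
        have := mul_mem (mul_mem (inv_mem n.2) (hqL hx)) n.2
        simpa [mul_assoc] using this
      exact (mem_normalizer_iff.1 hn ⟨x, hxR⟩).2 hx
  have hsub : ∀ {n : R} {K : Subgroup G}, (n : G) ∈ normalizer (K : Set G) →
      n ∈ normalizer ((K.subgroupOf R : Subgroup R) : Set R) := fun {n K} hn =>
    mem_normalizer_iff.2 fun x => by
      simp only [mem_subgroupOf, Subgroup.coe_mul, InvMemClass.coe_inv]
      exact mem_normalizer_iff.1 hn x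
  have hD : (Op p M).subgroupOf R ≤ Cfsg.pPrimeCore q R := by
    refine CfsgLib.PConstrained.pPrimeCore_normalizer_le (P := (Op q M).subgroupOf R)
      (CfsgLib.Fitting.centralizer_pCore_le (CfsgLib.Fitting.pPrimeCore_quotient_eq_bot q))
      ((isPGroup_Op q M).comap_subtype) (fun d hd => ?_) (fun n hn => ?_) ?_
    · exact hsub (coreIn_le_normalizer_Op q M (Op_le p M hd))
    · exact hsub (le_normalizer_Op p M (hM q Fact.out hq ▸ hmem hn))
    · obtain ⟨k, hk⟩ := IsPGroup.iff_card.1 (isPGroup_Op p M)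
      rw [Nat.card_congr (subgroupOfEquivOfLe hpL).toEquiv, hk]
      exact ((Nat.coprime_primes Fact.out Fact.out).2 hpq).pow_left k
  intro x hx
  exact ⟨⟨x, hpL hx⟩, hD hx, rfl⟩

/-- An `O_q` of the second core commutes with the other `O_p` of the first. -/
theorem cross_commute {M L : Subgroup G} (hM : Self M) {p q : ℕ} [Fact p.Prime]
    [Fact q.Prime] (hpq : p ≠ q) (hq : Op q M ≠ ⊥) (hpL : Op p M ≤ coreIn L)
    (hqL : Op q M ≤ coreIn L) {x y : G} (hx : x ∈ Op p M) (hy : y ∈ Op q L) : Commute x y := by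
  obtain ⟨x', hx', rfl⟩ := cross hM hpq hq hpL hqL hx
  obtain ⟨y', hy', rfl⟩ := hy
  haveI := (CfsgLib.Solvable.pPrimeCore_spec (G := coreIn L) q).1
  haveI := CfsgLib.Solvable.pCore_normal (G := coreIn L) q
  refine congrArg Subtype.val (Subgroup.commute_of_normal_of_disjoint _ _ inferInstance inferInstance
    (disjoint_iff.2 ?_) x' y' hx' hy').eq
  rw [inf_comm]
  exact ZJ.isPGroup_inf_coprime (CfsgLib.Solvable.isPGroup_pCore q)
    (CfsgLib.Solvable.coprime_card_pPrimeCore q)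

/-- Bender's lemma: two members whose Fitting subgroups lie in each other's cores are equal. -/
theorem eq_of_cross {M L : Subgroup G} (hM : Self M) (hL : Self L)
    (two : ∀ p : ℕ, ∃ q ∈ sig M, q ≠ p)
    (hXL : ∀ p : ℕ, p.Prime → Op p M ≤ coreIn L) (hYM : ∀ p : ℕ, p.Prime → Op p L ≤ coreIn M) :
    M = L := by
  -- the two sets of primes agree
  have sub : ∀ {M L : Subgroup G}, (∀ p : ℕ, p.Prime → Op p M ≤ coreIn L) →
      (∀ p : ℕ, p.Prime → Op p L ≤ coreIn M) → ∀ r ∈ sig M, r ∈ sig L := by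
    intro M L h1 h2 r hr
    obtain ⟨hrp, hne⟩ := mem_sig.1 hr
    haveI : Fact r.Prime := ⟨hrp⟩
    by_contra hrL
    refine hne (le_bot_iff.1 fun x hx => ?_)
    have hbot : Op r L = ⊥ := by_contra fun h => hrL (mem_sig.2 ⟨hrp, h⟩)
    have := mem_Op_of_commute (h1 r hrp hx) (pow_mem_Op hx) (p := r) fun q hq y hy => by
      haveI : Fact q.Prime := ⟨hq⟩
      by_cases hqr : q = r
      · subst hqr; rw [hbot, mem_bot] at hy; rw [hy]; exact Commute.one_left x
      · exact commute_of_pq hqr (isPGroup_Op q L) (isPGroup_Op r M) hy hx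
          (coreIn_le_normalizer_Op r M (h2 q hq hy)) (coreIn_le_normalizer_Op q L (h1 r hrp hx))
    rwa [hbot] at this
  -- one `O_p` of `M` lies in that of `L`
  have step : ∀ {M L : Subgroup G}, Self M → (∀ p : ℕ, ∃ q ∈ sig M, q ≠ p) →
      (∀ p : ℕ, p.Prime → Op p M ≤ coreIn L) → (∀ r ∈ sig L, r ∈ sig M) →
      ∀ p ∈ sig M, Op p M ≤ Op p L := by
    intro M L hM two hXL hsig p hpM
    obtain ⟨hp, -⟩ := mem_sig.1 hpM
    haveI : Fact p.Prime := ⟨hp⟩
    set R := coreIn L with hR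
    obtain ⟨q, hqM, hqp⟩ := two p
    obtain ⟨hq, hqne⟩ := mem_sig.1 hqM
    haveI : Fact q.Prime := ⟨hq⟩
    let K : ℕ → Subgroup R := fun i => ⨅ (r : ℕ) (_ : r ∈ sig M ∧ r ≠ i), Cfsg.pPrimeCore r R
    have hKn : ∀ i, (K i).Normal := fun i =>
      normal_iInf_normal fun r => normal_iInf_normal fun _ => (CfsgLib.Solvable.pPrimeCore_spec r).1
    have hin : ∀ i, i.Prime → i ∈ sig M → ∀ x ∈ Op i M, ∀ (h : x ∈ R), (⟨x, h⟩ : R) ∈ K i := by
      intro i hi _ x hx h
      haveI : Fact i.Prime := ⟨hi⟩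
      simp only [K, mem_iInf]
      rintro r ⟨hrM, hri⟩
      obtain ⟨hr, hrne⟩ := mem_sig.1 hrM
      haveI : Fact r.Prime := ⟨hr⟩
      obtain ⟨x', hx', he⟩ := cross hM hri.symm hrne (hXL i hi) (hXL r hr) hx
      obtain rfl : x' = ⟨x, h⟩ := Subtype.ext he
      exact hx'
    have hdis : Disjoint (K p) (K q) := by
      rw [disjoint_iff]
      have hn : (K p ⊓ K q).Normal := by
        haveI := hKn p
        haveI := hKn q
        infer_instance
      refine (map_eq_bot_iff_of_injective _ R.subtype_injective).1 (eq_bot_of_coprime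
        (map_subtype_le _) (fun g hg => le_normalizer_map R.subtype ⟨⟨g, hg⟩, by
          haveI := hn
          rw [normalizer_eq_top]; exact mem_top _, rfl⟩) fun r hr => ?_)
      rw [card_map_of_injective R.subtype_injective]
      refine (CfsgLib.Solvable.coprime_card_pPrimeCore (G := R) r).coprime_dvd_left
        (card_dvd_of_le fun x hx => ?_)
      have hrM := hsig r hr
      by_cases h : r = p
      · exact (mem_iInf.1 (mem_iInf.1 hx.2 r)) ⟨hrM, fun e => hqp (e.symm.trans h)⟩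
      · exact (mem_iInf.1 (mem_iInf.1 hx.1 r)) ⟨hrM, h⟩
    -- the first one lies in `M`
    set Kp := (K p).map R.subtype with hKp
    have hKM : Kp ≤ M := by
      rintro _ ⟨k, hk, rfl⟩
      rw [← hM q hq hqne]
      refine centralizer_le_normalizer _ (mem_centralizer_iff.2 fun x hx => ?_)
      exact (congrArg Subtype.val (Subgroup.commute_of_normal_of_disjoint _ _ (hKn p) (hKn q) hdis
        k ⟨x, hXL q hq hx⟩ hk (hin q hq hqM x hx _)).eq).symm
    have h1 : Op p M ≤ LocalB.opIn p Kp := LocalB.le_opIn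
      (fun x hx => ⟨⟨x, hXL p hp hx⟩, hin p hp hpM x hx _, rfl⟩) (isPGroup_Op p M)
      (hKM.trans (le_normalizer_Op p M))
    refine h1.trans (LocalB.le_opIn ((LocalB.opIn_le Kp).trans (map_subtype_le _))
      (LocalB.isPGroup_opIn Kp) (fun g hg => normalizer_le_normalizer_opIn p Kp ?_))
    exact le_normalizer_map R.subtype ⟨⟨g, hg⟩, by
      haveI := hKn p
      rw [normalizer_eq_top]; exact mem_top _, rfl⟩
  obtain ⟨p, hp, -⟩ := two 0
  obtain ⟨hpp, hne⟩ := mem_sig.1 hp
  haveI : Fact p.Prime := ⟨hpp⟩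
  have hp' := sub hXL hYM p hp
  have he : Op p M = Op p L := le_antisymm (step hM two hXL (sub hYM hXL) p hp)
    (step hL (fun i => (two i).imp fun q h => ⟨sub hXL hYM q h.1, h.2⟩) hYM (sub hXL hYM) p hp')
  rw [← hM p hpp hne, ← hL p hpp (mem_sig.1 hp').2, he]

end CfsgLib.GW.CaseII
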