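import Cfsg.Agent.GW.CaseII.Coatom
import Cfsg.Agent.GW.CaseII.Pair
import Cfsg.Agent.GW.CaseII.Cover

/-!
# Case II: the final step

`M = R V` is a maximal subgroup over `C(a)` and `Y ≤ O_p(M)` is normalised by a permutation of the
involutions of `V`.  A maximal subgroup over `N(Y)` has fusion; its core and `R` contain each
other's Fitting subgroups unless a part of the centre of some `O_q(M)` is centralised by a fusing
element, so both are equal, which is absurd.
-/

set_option autoImplicit false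
set_option linter.style.haveILetI false
set_option linter.unusedSectionVars false

namespace CfsgLib.GW.CaseI.Over

open Subgroup
open CfsgLib.NormCyclic (Inv)
open CfsgLib.DGroup (coreIn Op cen conj_mem conj_mem' odd_orderOf eq_one_of_sq eq_one_of_inv_eq)
open CfsgLib.GW.CaseII (Self)

universe u

variable {G : Type u} [Group G] [Finite G] {C : Ctx G} {M R : Subgroup G} (hM : Over C M R)
include hM

theorem not_fus : ¬ C.Fus M := by
  rintro ⟨g, hg, h⟩
  obtain ⟨r, hr, v, hv, rfl⟩ := hM.decomp g hg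
  have hva : v * C.a * v⁻¹ = C.a := by
    rw [(C.commute_of_mem_V hv C.a_mem_V).eq, mul_inv_cancel_right]
  have hrv : r * v * C.a * (r * v)⁻¹ = r * C.a * r⁻¹ := by
    rw [show r * v * C.a * (r * v)⁻¹ = r * (v * C.a * v⁻¹) * r⁻¹ by group, hva]
  rw [hrv] at h
  have hc : r * C.a * r⁻¹ * C.a⁻¹ ∈ R := by
    rw [show r * C.a * r⁻¹ * C.a⁻¹ = r * (C.a * r⁻¹ * C.a⁻¹) by group]
    exact mul_mem hr (conj_mem (hM.norm (hM.V_le C.a_mem_V)) (inv_mem hr))
  have ho := odd_orderOf hM.odd hc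
  rcases h with h | h <;> rw [h, C.ha.inv_eq] at ho
  · exact C.hc.2 (eq_one_of_sq C.hc.1 (by rwa [Ctx.c, C.hab.eq]))
  · rw [Ctx.c, C.hab.eq, mul_assoc, C.ha.1, mul_one] at ho
    exact C.hb.2 (eq_one_of_sq C.hb.1 ho)

theorem self : Self M := fun q hq hne => by
  haveI : Fact q.Prime := ⟨hq⟩
  exact hM.eq_of_normal hne ((hM.Op_le_R q).trans hM.le) (CfsgLib.DGroup.le_normalizer_Op q M)

/-- The final step of case II. -/
theorem finish {p : ℕ} [Fact p.Prime] (h2 : ∃ r : ℕ, r.Prime ∧ r ≠ p ∧ Op r M ≠ ⊥)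
    (hd : Over.Data C M p) : False := by
  obtain ⟨Y, n, y, hYF, hVY, hnY, -, hna, hnb, hnc, hyY, hy1, hya, hyb, hyz⟩ := hd
  obtain ⟨r0, hr0, hr0p, hr0M⟩ := h2
  haveI : Fact r0.Prime := ⟨hr0⟩
  have hyF : y ∈ Op p M := hYF hyY
  have hyo : Odd (orderOf y) := odd_orderOf (CfsgLib.DGroup.odd_Op p M) hyF
  have hY1 : Y ≠ ⊥ := fun h => hy1 (by rwa [h, mem_bot] at hyY)
  have hF1 : Op p M ≠ ⊥ := fun h => hy1 (by rwa [h, mem_bot] at hyF)
  obtain ⟨L, hle, hmax⟩ := exists_maximal_ge_of_wellFoundedGT (fun K : Subgroup G => K ≠ ⊤)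
    (normalizer (Y : Set G)) (C.normalizer_ne_top hY1 fun h =>
      hM.ne_top (top_le_iff.1 (h ▸ hYF.trans ((hM.Op_le_R p).trans hM.le))))
  have ha : C.a ∈ L := hle (hVY C.a_mem_V)
  have hb : C.b ∈ L := hle (hVY C.b_mem_V)
  have hn : n ∈ L := hle hnY
  have hFus : C.Fus L := ⟨n, hn, Or.inl hna⟩
  have hyL : y ∈ L := hle (le_normalizer hyY)
  have hWn : L ≤ normalizer (coreIn L : Set G) := CfsgLib.DGroup.normalizer_coreIn L
  have hWL : coreIn L ≤ L := CfsgLib.DGroup.coreIn_le L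
  have hselfL : Self L := fun q hq hne => by
    haveI : Fact q.Prime := ⟨hq⟩
    exact hmax.eq_of_ge (C.normalizer_ne_top hne fun h => hmax.1 (top_le_iff.1
      (h ▸ (CfsgLib.DGroup.Op_le q L).trans hWL))) (CfsgLib.DGroup.le_normalizer_Op q L)
  have hcY : ∀ z, (∀ w ∈ Y, Commute w z) → z ∈ L := fun z hz =>
    hle (centralizer_le_normalizer _ (mem_centralizer_iff.2 fun w hw => (hz w hw).eq))
  have hFL' : ∀ q : ℕ, q.Prime → q ≠ p → Op q M ≤ L := fun q hq hqp z hz => by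
    haveI : Fact q.Prime := ⟨hq⟩
    exact hcY z fun w hw => CfsgLib.DGroup.Op_commute hqp.symm (hYF hw) hz
  have hcenL : ∀ q : ℕ, q.Prime → cen q M ≤ L := fun q hq z hz => by
    haveI : Fact q.Prime := ⟨hq⟩
    exact hcY z fun w hw => (CfsgLib.DGroup.cen_commute hz (hYF hw)).symm
  have hhalf : ∀ v x : G, v * v = 1 → v * x * v = x⁻¹ → v * x * v⁻¹ = x⁻¹ := fun v x hv h => by
    rwa [inv_eq_of_mul_eq_one_right hv]
  -- the Fitting subgroup of the core of `L` commutes with the part of `M`'s in `L`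
  have hcomm1 : ∀ r s : ℕ, r.Prime → s.Prime → r ≠ s → Op r M ≠ ⊥ →
      ∀ e ∈ Op r L, ∀ f ∈ Op s M, f ∈ L → Commute f e := by
    intro r s hr hs hrs hrM e he f hf hfL
    haveI : Fact r.Prime := ⟨hr⟩
    haveI : Fact s.Prime := ⟨hs⟩
    exact CfsgLib.GW.CaseII.pxq hrs (CfsgLib.DGroup.isPGroup_Op r L)
      ((CfsgLib.DGroup.isPGroup_Op r M).to_le (inf_le_left : cen r M ≤ Op r M))
      (CfsgLib.DGroup.isPGroup_Op s M) (inf_le_left : Op s M ⊓ L ≤ Op s M)
      ((hcenL r hr).trans (CfsgLib.DGroup.le_normalizer_Op r L))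
      (inf_le_right.trans (CfsgLib.DGroup.le_normalizer_Op r L))
      (fun z hz w hw => CfsgLib.DGroup.cen_commute hz hw.1)
      (fun z _ hzc => CfsgLib.DGroup.le_normalizer_Op s M (hM.centralizer_cen_le hrM
        (mem_centralizer_iff.2 fun w hw => (hzc w hw).eq))) e he f ⟨hf, hfL⟩
  have hrot : ∀ {g x v w : G}, Commute x v → g * v * g⁻¹ = w → Commute (g * x * g⁻¹) w :=
    fun {g x v w} h e => e ▸ (Commute.conj_iff g).2 h
  have hbot : ∀ r : ℕ, r.Prime → Op r M = ⊥ → Op r L = ⊥ := by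
    intro r hr hrM
    haveI : Fact r.Prime := ⟨hr⟩
    have hrp : r ≠ p := fun h => hF1 (h ▸ hrM)
    have hEo : Odd (Nat.card (Op r L)) := CfsgLib.DGroup.odd_Op r L
    have fa : ∀ x ∈ Op r L, Commute x C.a → x = 1 := by
      intro x hx hxa
      have hxM : x ∈ M := hM.H_le (C.mem_H.2 hxa)
      have hxR : x ∈ R := hM.mem_of_odd x hxM (odd_orderOf hEo hx)
      have hc : ∀ q : ℕ, q.Prime → ∀ f ∈ Op q M, f ∈ L → Commute f x := fun q hq f hf hfL => by
        haveI : Fact q.Prime := ⟨hq⟩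
        by_cases hqr : q = r
        · subst hqr; rw [hrM, mem_bot] at hf; rw [hf]; exact Commute.one_left x
        · exact CfsgLib.DGroup.commute_of_pq hqr (CfsgLib.DGroup.isPGroup_Op q M)
            (CfsgLib.DGroup.isPGroup_Op r L) hf hx (CfsgLib.DGroup.le_normalizer_Op r L hfL)
            (CfsgLib.DGroup.le_normalizer_Op q M hxM)
      have := CfsgLib.DGroup.mem_Op_of_commute (p := r) (hM.coreIn_eq.symm ▸ hxR)
        (CfsgLib.DGroup.pow_mem_Op hx) fun q hq z hz => by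
          by_cases hqp : q = p
          swap
          · exact hc q hq z hz (hFL' q hq hqp hz)
          subst hqp
          exact (CfsgLib.GW.CaseII.axb (CfsgLib.DGroup.isPGroup_Op q M) hYF
            (CfsgLib.DGroup.orderOf_coprime (CfsgLib.DGroup.pow_mem_Op hx) hrp)
            (CfsgLib.DGroup.le_normalizer_Op q M hxM)
            (fun w hw => hc q hq w (hYF hw) (hle (le_normalizer hw)))
            (fun w hw hwY => (hc q hq w hw (hcY w hwY)).symm) z hz).symm
      rwa [hrM, mem_bot] at this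
    have hnE : n ∈ normalizer (Op r L : Set G) := CfsgLib.DGroup.le_normalizer_Op r L hn
    have fb : ∀ x ∈ Op r L, Commute x C.b → x = 1 := fun x hx hxb => by
      have := fa _ (conj_mem (inv_mem hnE) hx) (hrot hxb (by rw [inv_inv, ← hna]; group))
      exact conj_eq_one_iff.1 this
    have fc : ∀ x ∈ Op r L, Commute x C.c → x = 1 := fun x hx hxc =>
      conj_eq_one_iff.1 (fa _ (conj_mem hnE hx) (hrot hxc hnc))
    refine (eq_bot_iff_forall _).2 fun x hx => ?_
    have inv : ∀ v : G, v * v = 1 → v ∈ normalizer (Op r L : Set G) →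
        (∀ z ∈ Op r L, Commute z v → z = 1) → v * x * v = x⁻¹ := fun v hv hvE hfix => by
      obtain ⟨f, hf, i, _, hfv, hi, rfl⟩ := exists_split hv hEo hvE hx
      rw [hfix f hf hfv, one_mul, hi]
    refine fc x hx ?_
    have h1 := inv C.a C.ha.1 (CfsgLib.DGroup.le_normalizer_Op r L ha) fa
    have h2 := inv C.b C.hb.1 (CfsgLib.DGroup.le_normalizer_Op r L hb) fb
    refine (mul_inv_eq_iff_eq_mul.1 (?_ : C.c * x * C.c⁻¹ = x)).symm
    rw [Ctx.c, show C.a * C.b * x * (C.a * C.b)⁻¹ = C.a * (C.b * x * C.b⁻¹) * C.a⁻¹ by group,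
      hhalf _ _ C.hb.1 h2, show C.a * x⁻¹ * C.a⁻¹ = (C.a * x * C.a⁻¹)⁻¹ by group,
      hhalf _ _ C.ha.1 h1, inv_inv]
  have hcomm : ∀ r s : ℕ, r.Prime → s.Prime → r ≠ s →
      ∀ e ∈ Op r L, ∀ f ∈ Op s M, f ∈ L → Commute f e := by
    intro r s hr hs hrs e he f hf hfL
    by_cases hrM : Op r M = ⊥
    · rw [hbot r hr hrM, mem_bot] at he; rw [he]; exact Commute.one_right f
    · exact hcomm1 r s hr hs hrs hrM e he f hf hfL
  have hER : ∀ r : ℕ, r.Prime → Op r L ≤ R := by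
    intro r hr e he
    haveI : Fact r.Prime := ⟨hr⟩
    obtain ⟨s, hs, hsr, hsM⟩ : ∃ s, s.Prime ∧ s ≠ r ∧ Op s M ≠ ⊥ := by
      by_cases h : r = p
      · exact ⟨r0, hr0, h ▸ hr0p, hr0M⟩
      · exact ⟨p, Fact.out, Ne.symm h, hF1⟩
    haveI : Fact s.Prime := ⟨hs⟩
    exact hM.mem_of_odd e (hM.centralizer_cen_le hsM (mem_centralizer_iff.2 fun z hz =>
      (hcomm r s hr hs hsr.symm e he z hz.1 (hcenL s hs hz)).eq))
      (odd_orderOf (CfsgLib.DGroup.odd_Op r L) he)
  have hyW : y ∈ coreIn L := C.mem_coreIn_of_torus hmax.1 ha hb hn hna hnb hnc hyL hyo hya hyb hyz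
  -- covering
  have hcov : ∀ r s : ℕ, r.Prime → s.Prime → r ≠ s → ∀ x ∈ Op s M, x ∈ L → x ∉ coreIn L →
      C.V ≤ L ⊓ centralizer (Op r L : Set G) ∧
        C.Fus (L ⊓ centralizer (Op r L : Set G)) := by
    intro r s hr hs hrs x hx hxL hxW
    haveI : Fact r.Prime := ⟨hr⟩
    exact C.cover ha hb hFus inf_le_left (fun g hg => mem_normalizer_inf (le_normalizer hg)
      (CfsgLib.DGroup.mem_normalizer_centralizer (CfsgLib.DGroup.le_normalizer_Op r L hg)))
      ⟨hxL, mem_centralizer_iff.2 fun e he => (hcomm r s hr hs hrs e he x hx hxL).symm.eq⟩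
      (odd_orderOf (CfsgLib.DGroup.odd_Op s M) hx) hxW
  have hFW : ∀ s : ℕ, s.Prime → s ≠ p → Op s M ≤ coreIn L := by
    intro s hs hsp x hx
    by_contra hxW
    have haE : ∀ r : ℕ, r.Prime → r ≠ s → ∀ e ∈ Op r L, Commute e C.a := fun r hr hrs e he =>
      mem_centralizer_iff.1 ((hcov r s hr hs hrs x hx (hFL' s hs hsp hx) hxW).1 C.a_mem_V).2 e he
    have hya' : C.a * y * C.a = y⁻¹ := by rw [← hya, C.ha.inv_eq]
    have hall : ∀ q : ℕ, q.Prime → ∀ e ∈ Op q L, Commute e y := fun q hq e he => by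
      haveI : Fact q.Prime := ⟨hq⟩
      by_cases hqp : q = p
      · subst hqp
        exact (commute_of_fixed C.ha.1 hyo hya' (haE q hq hsp.symm e he) (haE q hq hsp.symm _
          (conj_mem (CfsgLib.DGroup.le_normalizer_Op q L hyL) he))).symm
      · exact (hcomm q p hq Fact.out hqp e he y hyF hyL).symm
    have hyE := CfsgLib.DGroup.mem_Op_of_commute hyW (CfsgLib.DGroup.pow_mem_Op hyF) hall
    have hc := haE p Fact.out hsp.symm y hyE
    rw [hc.symm.eq, mul_inv_cancel_right] at hya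
    exact hy1 (eq_one_of_inv_eq hya.symm hyo)
  -- `O_p(M) ≤ L`
  obtain ⟨s, hs, hsp, hsL⟩ : ∃ s, s.Prime ∧ s ≠ p ∧ Op s L ≠ ⊥ := by
    by_contra hc
    push Not at hc
    refine hr0M ((eq_bot_iff_forall _).2 fun f hf => ?_)
    have := CfsgLib.DGroup.mem_Op_of_commute (hFW r0 hr0 hr0p hf) (CfsgLib.DGroup.pow_mem_Op hf)
      fun q hq e he => by
        by_cases hqp : q = p
        · exact (hcomm q r0 hq hr0 (hqp ▸ hr0p.symm) e he f hf (hFL' r0 hr0 hr0p hf)).symm
        · rw [hc q hq hqp, mem_bot] at he; rw [he]; exact Commute.one_left f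
    rwa [hc r0 hr0 hr0p, mem_bot] at this
  haveI : Fact s.Prime := ⟨hs⟩
  have hFL : Op p M ≤ L := fun f hf => by
    have hc : f ∈ centralizer (Op s L : Set G) := mem_centralizer_iff.2 fun e he =>
      (CfsgLib.GW.CaseII.axb (CfsgLib.DGroup.isPGroup_Op p M) hYF
        (CfsgLib.DGroup.orderOf_coprime (CfsgLib.DGroup.pow_mem_Op he) hsp)
        (CfsgLib.DGroup.le_normalizer_Op p M (hM.le (hER s hs he)))
        (fun w hw => hcomm s p hs Fact.out hsp e he w (hYF hw) (hle (le_normalizer hw)))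
        (fun w hw hwY => (hcomm s p hs Fact.out hsp e he w hw (hcY w hwY)).symm) f hf).eq
    exact hselfL s hs hsL ▸ centralizer_le_normalizer _ hc
  by_cases hpW : Op p M ≤ coreIn L
  · refine hM.not_fus ?_
    rw [CfsgLib.GW.CaseII.eq_of_cross hM.self hselfL (fun i => ?_)
      (fun q hq => if h : q = p then h.symm ▸ hpW else hFW q hq h)
      (fun q hq => hM.coreIn_eq.symm ▸ hER q hq)]
    · exact hFus
    · by_cases h : i = p
      · exact ⟨r0, CfsgLib.DGroup.mem_sig.2 ⟨hr0, hr0M⟩, h ▸ hr0p⟩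
      · exact ⟨p, CfsgLib.DGroup.mem_sig.2 ⟨Fact.out, hF1⟩, Ne.symm h⟩
  -- a fusing element centralises part of the centre of `O_q(M)`
  obtain ⟨f, hf, hfW⟩ := SetLike.not_le_iff_exists.1 hpW
  obtain ⟨hV, g, hg, hga⟩ := hcov r0 p hr0 Fact.out hr0p f hf (hFL hf) hfW
  set S : Set G := {x | ∃ r : ℕ, r.Prime ∧ r ≠ r0 ∧ x ∈ Op r L} with hS
  set K2 := coreIn L ⊓ centralizer S with hK2
  have hLS : ∀ g ∈ L, ∀ k ∈ centralizer S, g * k * g⁻¹ ∈ centralizer S := fun g hg k hk =>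
    mem_centralizer_iff.2 fun x ⟨r, hr, hrr, hx⟩ => by
      haveI : Fact r.Prime := ⟨hr⟩
      have h1 : Commute (g⁻¹ * x * g) k := mem_centralizer_iff.1 hk _
        ⟨r, hr, hrr, conj_mem' (CfsgLib.DGroup.le_normalizer_Op r L hg) hx⟩
      have h2 := (Commute.conj_iff g).2 h1
      rwa [show g * (g⁻¹ * x * g) * g⁻¹ = x by group] at h2
  have hK2n : L ≤ normalizer (K2 : Set G) := fun g hg => mem_normalizer_inf (hWn hg)
    (mem_normalizer_iff.2 fun k => ⟨hLS g hg k, fun hk => by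
      simpa [mul_assoc] using hLS g⁻¹ (inv_mem hg) _ hk⟩)
  have hK2R : K2 ≤ R := fun k hk => by
    have hodd : Odd (Nat.card K2) :=
      (CfsgLib.DGroup.odd_coreIn L).of_dvd_nat (card_dvd_of_le inf_le_left)
    obtain ⟨c, hc, i, hi, hca, hia, rfl⟩ := exists_split C.ha.1 hodd (hK2n ha) hk
    refine mul_mem (hM.mem_of_odd c (hM.H_le (C.mem_H.2 hca)) (odd_orderOf hodd hc)) ?_
    have hfit := CfsgLib.DGroup.mem_fit_of_commute (M := L) hi.1 fun r hr e he => by
      haveI : Fact r.Prime := ⟨hr⟩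
      by_cases hrr : r = r0
      · subst hrr
        exact (commute_of_fixed C.ha.1 (odd_orderOf hodd hi) hia
          (mem_centralizer_iff.1 (hV C.a_mem_V).2 e he) (mem_centralizer_iff.1 (hV C.a_mem_V).2 _
            (conj_mem (CfsgLib.DGroup.le_normalizer_Op r L (hWL hi.1)) he))).symm
      · exact mem_centralizer_iff.1 hi.2 e ⟨r, hr, hrr, he⟩
    have hle' : MaxBender.fit (coreIn L) ≤ R := by
      rw [MaxBender.fit, Comp.fitting_eq_iSup_pCore, Subgroup.map_iSup]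
      exact iSup_le fun q => hER q (Nat.prime_of_mem_primeFactors q.2)
    exact hle' hfit
  have hZ : cen r0 M ≤ Op r0 L := by
    have hZK : cen r0 M ≤ K2 := fun z hz =>
      ⟨hFW r0 hr0 hr0p hz.1, mem_centralizer_iff.2 fun x ⟨r, hr, hrr, hx⟩ =>
        (hcomm r r0 hr hr0 hrr x hx z hz.1 (hcenL r0 hr0 hz)).symm.eq⟩
    refine (LocalB.le_opIn hZK ((CfsgLib.DGroup.isPGroup_Op r0 M).to_le inf_le_left)
      ((hK2R.trans hM.le).trans (CfsgLib.DGroup.le_normalizer_cen r0 M))).trans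
      (LocalB.le_opIn ((LocalB.opIn_le K2).trans inf_le_left) (LocalB.isPGroup_opIn K2)
        ((hWL.trans hK2n).trans (CfsgLib.DGroup.normalizer_le_normalizer_opIn r0 K2)))
  exact hM.not_fus ⟨g, hM.centralizer_cen_le hr0M
    (mem_centralizer_iff.2 fun z hz => mem_centralizer_iff.1 hg.2 z (hZ hz)), hga⟩

end CfsgLib.GW.CaseI.Over

namespace CfsgLib.GW.CaseI

universe u

variable {G : Type u} [Group G] [Finite G]

/-- Case II of Gorenstein–Walter: with `D ≠ 1` the centraliser of `a` is a maximal subgroup. -/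
theorem Ctx.isCoatom_H (C : Ctx G) (O : Order C) (hD : C.D ≠ ⊥) : IsCoatom C.H :=
  C.isCoatom_H_of_finish O hD fun hM _ _ h2 hd => hM.finish h2 hd

end CfsgLib.GW.CaseI
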