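import Cfsg.Agent.GW.CaseII.Main

/-!
# Case II: `C(a)` is a maximal subgroup, the assembly
-/

set_option autoImplicit false

namespace CfsgLib.GW.CaseI

open Subgroup
open CfsgLib.DGroup (Op)

universe u

variable {G : Type u} [Group G] [Finite G]

/-- `C(a)` is maximal, given the final step. -/
theorem Ctx.isCoatom_H_of_finish (C : Ctx G) (O : Order C) (hD : C.D ≠ ⊥)
    (finish : ∀ {C : Ctx G} {M R : Subgroup G}, Over C M R → ∀ {p : ℕ} [Fact p.Prime],
      (∃ r : ℕ, r.Prime ∧ r ≠ p ∧ Op r M ≠ ⊥) → Over.Data C M p → False) :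
    IsCoatom C.H := by
  refine ⟨C.H_ne_top, fun M hlt => by_contra fun hM => ?_⟩
  obtain ⟨M', hle, hmax⟩ := exists_maximal_ge_of_wellFoundedGT (fun K : Subgroup G => K ≠ ⊤) M hM
  have hHM : C.H < M' := hlt.trans_le hle
  have hnf : ¬ C.Fus M' := C.not_fus_of_lt O hD hmax.1 hHM.le
  obtain ⟨R, hR⟩ := C.exists_over hmax.1 (fun K h1 h2 => (hmax.eq_of_ge h2 h1)) hHM.le hnf
  obtain ⟨p, hp, hbad⟩ := hR.exists_bad hHM
  haveI : Fact p.Prime := ⟨hp⟩
  have h2 := hR.two_primes hbad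
  rcases hR.data hbad h2 with h | h
  exacts [finish hR h2 h, finish hR.flip h2 h]

end CfsgLib.GW.CaseI
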