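import Cfsg.Agent.GW.CaseI.Normalizer
import Cfsg.Agent.GW.CaseI.PSLTorus
import Cfsg.Agent.Fusion.InnerZJ
import Cfsg.Agent.GW.CaseI.Torus

/-!
# Case II: invariant `p`-groups not centralised by `a` are linked

If a `V`-invariant `p`-group `P₀` contains a Sylow subgroup `Uₚ` of `U` and is not centralised by
`a`, then an element of `N(V)` permuting the involutions cyclically maps the parts of `P₀` centralised
by `b` and by `ab` into `Uₚ`.
-/

set_option autoImplicit false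
set_option linter.style.haveILetI false
set_option linter.unusedSectionVars false

namespace CfsgLib.GW.CaseI

open Subgroup
open CfsgLib.NormCyclic (Inv)
open CfsgLib.Linear.SmallSub (P2)
open CfsgLib.DGroup (coreIn conj_mem conj_mem' odd_orderOf eq_one_of_sq eq_one_of_inv_eq)
open scoped CfsgLib.Functor

universe u

variable {G : Type u} [Group G] [Finite G]

/-- With Sylow 2-subgroups of order at most 2 the involutions of a subgroup are conjugate in it. -/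
theorem conj_of_not_four_dvd {L : Subgroup G} (h4 : ¬ 4 ∣ Nat.card L) {v w : G} (hv : Inv v)
    (hw : Inv w) (hvL : v ∈ L) (hwL : w ∈ L) : ∃ g ∈ L, g * v * g⁻¹ = w := by
  haveI : Fact (Nat.Prime 2) := ⟨Nat.prime_two⟩
  have hsyl : ∀ u : L, orderOf u = 2 → ∃ S : Sylow 2 L, (S : Subgroup L) = zpowers u := by
    intro u hu
    have hp : IsPGroup 2 (zpowers u) :=
      IsPGroup.of_card (n := 1) (by rw [Nat.card_zpowers, hu, pow_one])
    refine ⟨hp.toSylow fun hd => h4 ?_, rfl⟩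
    rw [← card_mul_index (zpowers u), Nat.card_zpowers, hu]
    obtain ⟨k, hk⟩ := hd
    exact ⟨k, by rw [hk]; ring⟩
  obtain ⟨S, hS⟩ := hsyl ⟨v, hvL⟩ (by rw [← Subgroup.orderOf_coe]; exact hv.orderOf)
  obtain ⟨T, hT⟩ := hsyl ⟨w, hwL⟩ (by rw [← Subgroup.orderOf_coe]; exact hw.orderOf)
  obtain ⟨g, hg⟩ := MulAction.exists_smul_eq L S T
  refine ⟨g, g.2, ?_⟩
  have hmem : g * ⟨v, hvL⟩ * g⁻¹ ∈ zpowers (⟨w, hwL⟩ : L) := by
    rw [← hT, ← hg, Sylow.coe_subgroup_smul, hS]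
    exact ⟨⟨v, hvL⟩, mem_zpowers _, rfl⟩
  obtain ⟨i, hi⟩ := mem_zpowers_iff.1 hmem
  have hi' : (g : G) * v * (g : G)⁻¹ = w ^ i := by
    have := congrArg Subtype.val hi
    simpa using this.symm
  rcases Int.even_or_odd i with ⟨j, rfl⟩ | ⟨j, rfl⟩
  · rw [← two_mul, zpow_mul, zpow_two, hw.1, one_zpow] at hi'
    exact absurd (conj_eq_one_iff.1 hi') hv.2
  · rwa [zpow_add, zpow_mul, zpow_two, hw.1, one_zpow, one_mul, zpow_one] at hi'

/-- For a prime dividing the torus order the `p`-subgroups of `PSL₂(q)` are cyclic. -/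
theorem cyclic_of_torus {F : Type*} [Field F] [Fintype F] (hodd : Odd (Fintype.card F))
    (h8 : Fintype.card F % 8 = 3 ∨ Fintype.card F % 8 = 5) {p : ℕ} [Fact p.Prime] (hp2 : p ≠ 2)
    {z w t : P2 F} (hz : z * z = 1) (hz1 : z ≠ 1) (hw : w * w = 1) (hw1 : w ≠ 1) (hc : Commute w z)
    (hne : w ≠ z) (htz : Commute t z) (ht1 : t ≠ 1) (htp : ∃ k, t ^ p ^ k = 1)
    {P : Subgroup (P2 F)} (hP : IsPGroup p P) : IsCyclic P := by
  obtain ⟨u, ε, T, hε, hq, huo, hTc, hTcard, -, hTmem, -⟩ := psl_torus hodd h8 hz hz1 hw hw1 hc hne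
  haveI := hTc
  have hpr := (Fact.out : p.Prime)
  obtain ⟨k, hk⟩ := htp
  have htT : t ∈ T := hTmem t htz ((hpr.odd_of_ne_two hp2).pow.of_dvd_nat
    (orderOf_dvd_of_pow_eq_one hk))
  have hpu : p ∣ u := by
    obtain ⟨j, -, hj⟩ := (Nat.dvd_prime_pow hpr).1 (orderOf_dvd_of_pow_eq_one hk)
    rcases j with _ | j
    · exact absurd (orderOf_eq_one_iff.1 (hj.trans (pow_zero p))) ht1
    · exact (dvd_pow_self p j.succ_ne_zero).trans (hTcard ▸ hj ▸ Subgroup.orderOf_dvd_natCard T htT)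
  have hidx : ¬ p ∣ T.index := by
    intro hd
    have e0 := T.card_mul_index
    have e1 := two_mul_card_psl hodd
    rw [← e0, hTcard] at e1
    have hq1 : 1 ≤ Fintype.card F ^ 2 := Nat.one_le_pow _ _ Fintype.card_pos
    have e2 : (2 : ℤ) * ((u : ℤ) * T.index) = (Fintype.card F : ℤ) * ((Fintype.card F : ℤ) ^ 2 - 1) := by
      have := congrArg (Nat.cast : ℕ → ℤ) e1
      push_cast [Nat.cast_sub hq1] at this
      linarith
    rw [hq] at e2
    have hu0 : (u : ℤ) ≠ 0 := by exact_mod_cast huo.pos.ne'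
    have e3 : (T.index : ℤ) = 4 * (4 * (u : ℤ) + ε) * (2 * (u : ℤ) + ε) := by
      refine mul_left_cancel₀ (mul_ne_zero (two_ne_zero (α := ℤ)) hu0) ?_
      rcases hε with rfl | rfl <;> linear_combination e2
    have hpz : Prime (p : ℤ) := Nat.prime_iff_prime_int.1 hpr
    have hd' : (p : ℤ) ∣ (T.index : ℤ) := Int.natCast_dvd_natCast.2 hd
    have hpu' : (p : ℤ) ∣ (u : ℤ) := Int.natCast_dvd_natCast.2 hpu
    have hp1 : ¬ (p : ℤ) ∣ ε := fun h => hpr.ne_one (by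
      rcases hε with rfl | rfl
      · exact Nat.dvd_one.1 (Int.natCast_dvd_natCast.1 (by exact_mod_cast h))
      · exact Nat.dvd_one.1 (Int.natCast_dvd_natCast.1 (by exact_mod_cast dvd_neg.1 h)))
    rw [e3] at hd'
    rcases hpz.dvd_or_dvd hd' with h | h
    · rcases hpz.dvd_or_dvd h with h | h
      · have h4 : p ∣ 2 ^ 2 := Int.natCast_dvd_natCast.1 (by exact_mod_cast h)
        exact hp2 ((Nat.prime_dvd_prime_iff_eq hpr Nat.prime_two).1 (hpr.dvd_of_dvd_pow h4))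
      · exact hp1 ((Int.dvd_add_right (hpu'.mul_left 4)).1 h)
    · exact hp1 ((Int.dvd_add_right (hpu'.mul_left 2)).1 h)
  obtain ⟨S⟩ : Nonempty (Sylow p T) := inferInstance
  have hSp : IsPGroup p ((S : Subgroup T).map T.subtype) := S.2.map _
  haveI : IsCyclic ((S : Subgroup T).map T.subtype) :=
    isCyclic_of_surjective _ (T.subtype.subgroupMap_surjective (S : Subgroup T))
  obtain ⟨R, hR⟩ := hP.exists_le_sylow
  have hSi : ¬ p ∣ ((S : Subgroup T).map T.subtype).index := by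
    rw [index_map_subtype]
    exact hpr.not_dvd_mul S.not_dvd_index hidx
  obtain ⟨g, hg⟩ := MulAction.exists_smul_eq (P2 F) R (hSp.toSylow hSi)
  have hle : P.map (MulAut.conj g).toMonoidHom ≤ (S : Subgroup T).map T.subtype := by
    rintro _ ⟨x, hx, rfl⟩
    have h1 : g * x * g⁻¹ ∈ ((g • R : Sylow p (P2 F)) : Subgroup (P2 F)) := ⟨x, hR hx, rfl⟩
    rw [hg] at h1
    exact h1
  haveI : IsCyclic (P.map (MulAut.conj g).toMonoidHom) :=
    isCyclic_of_injective (inclusion hle) (inclusion_injective hle)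
  exact isCyclic_of_injective (P.equivMapOfInjective (MulAut.conj g).toMonoidHom (MulAut.conj g).injective).toMonoidHom
    (MulEquiv.injective _)

/-- In a cyclic `p`-group an involution does not both fix and invert nontrivial elements. -/
theorem eq_one_of_cyclic {H : Type*} [Group H] [Finite H] {p : ℕ} [Fact p.Prime] (hp2 : p ≠ 2)
    {P : Subgroup H} [IsCyclic P] (hP : IsPGroup p P) {b i j : H} (hb : b * b = 1) (hi : i ∈ P)
    (hj : j ∈ P) (hib : Commute i b) (hjb : b * j * b = j⁻¹) : i = 1 ∨ j = 1 := by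
  by_contra h
  push Not at h
  letI : CommGroup P := IsCyclic.commGroup
  have hpr := (Fact.out : p.Prime)
  have order_p : ∀ x : P, x ≠ 1 → ∃ m : ℕ, orderOf (x ^ m) = p := by
    intro x hx
    obtain ⟨k, hk⟩ := hP x
    obtain ⟨e, -, he⟩ := (Nat.dvd_prime_pow hpr).1 (orderOf_dvd_of_pow_eq_one hk)
    rcases e with _ | e
    · exact absurd (orderOf_eq_one_iff.1 (he.trans (pow_zero p))) hx
    · refine ⟨p ^ e, ?_⟩
      rw [orderOf_pow_of_dvd (pow_ne_zero _ hpr.ne_zero) (he ▸ pow_dvd_pow p e.le_succ), he,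
        pow_succ, Nat.mul_div_cancel_left _ (pow_pos hpr.pos e)]
  obtain ⟨m, hm⟩ := order_p ⟨i, hi⟩ fun e => h.1 (congrArg Subtype.val e)
  obtain ⟨l, hl⟩ := order_p ⟨j, hj⟩ fun e => h.2 (congrArg Subtype.val e)
  set x := (⟨i, hi⟩ : P) ^ m with hx
  set y := (⟨j, hj⟩ : P) ^ l with hy
  have hmem : y ∈ zpowers x := by
    let K : Subgroup P := (powMonoidHom p).ker
    have hK : Nat.card K ≤ p := by
      show Nat.card ↥((powMonoidHom p).ker : Subgroup P) ≤ p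
      rw [IsCyclic.card_powMonoidHom_ker]
      exact Nat.gcd_le_right _ hpr.pos
    have hle : zpowers x ≤ K := zpowers_le.2 (by
      show x ^ p = 1
      exact hm ▸ pow_orderOf_eq_one x)
    rw [eq_of_le_of_card_ge hle (hK.trans (by rw [Nat.card_zpowers, hm]))]
    show y ^ p = 1
    exact hl ▸ pow_orderOf_eq_one y
  obtain ⟨k, hk⟩ := mem_zpowers_iff.1 hmem
  have hy' : (j : H) ^ l = (i ^ m) ^ k := by
    have := congrArg Subtype.val hk
    simpa [hx, hy] using this.symm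
  have h1 : b * j ^ l * b = j ^ l := by
    rw [hy']; exact conj_eq_of_commute hb ((hib.pow_left m).zpow_left k)
  have h2 : b * j ^ l * b = (j ^ l)⁻¹ := by
    rw [← conj_invol_eq hb, ← conj_pow, conj_invol_eq hb, hjb, inv_pow]
  have h3 : (y : H) = 1 := eq_one_of_inv_eq
    (show (j ^ l)⁻¹ = j ^ l from h2.symm.trans h1) (by
      have : orderOf (y : H) = p := by rw [Subgroup.orderOf_coe, hl]
      exact this ▸ hpr.odd_of_ne_two hp2)
  rw [Subtype.ext h3 (a2 := (1 : P)), orderOf_one] at hl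
  exact hpr.one_lt.ne hl

namespace Ctx

variable (C : Ctx G)
include C

theorem conj_mem_D {n : G} (hn : n ∈ normalizer (C.V : Set G)) {d : G} (hd : d ∈ C.D) :
    n * d * n⁻¹ ∈ C.D := by
  have key : ∀ v ∈ C.V, Commute (n * d * n⁻¹) v := fun v hv => by
    have hw : Commute d (n⁻¹ * v * n) := by
      obtain ⟨hdU, hdb⟩ := C.mem_D.1 hd
      rcases C.mem_V.1 (conj_mem' hn hv) with e | e | e | e <;> rw [e]
      exacts [Commute.one_right d, C.commute_a hdU, hdb, C.commute_c hdU hdb]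
    have := (Commute.conj_iff n).2 hw
    rwa [show n * (n⁻¹ * v * n) * n⁻¹ = v by group] at this
  exact C.mem_D_of_odd (key _ C.a_mem_V) (key _ C.b_mem_V)
    (by rw [CfsgLib.Invol.orderOf_conj_eq]; exact odd_orderOf C.odd_D hd)

theorem commute_of_mem_D {d v : G} (hd : d ∈ C.D) (hv : v ∈ C.V) : Commute d v := by
  obtain ⟨hdU, hdb⟩ := C.mem_D.1 hd
  rcases C.mem_V.1 hv with e | e | e | e <;> rw [e]
  exacts [Commute.one_right d, C.commute_a hdU, hdb, C.commute_c hdU hdb]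

/-- The normal subgroup of a subgroup with fusion lying over `PSL₂(q)`. -/
theorem exists_shape {K : Subgroup G} (hK : K ≠ ⊤) (hVK : C.V ≤ K) (hfus : C.Fus K) :
    ∃ (Lg : Subgroup G) (F : Type) (_ : Field F) (_ : Fintype F), Lg ≤ K ∧
      K ≤ normalizer (Lg : Set G) ∧ coreIn K ≤ Lg ∧ C.Fus Lg ∧ Odd (Fintype.card F) ∧
      (Fintype.card F % 8 = 3 ∨ Fintype.card F % 8 = 5) ∧
      (∀ x ∈ K, x * x = 1 → x ∈ Lg) ∧
      (∀ x s : G, x ∈ K → s ∈ K → s * s = 1 → s * x * s = x⁻¹ → x ∈ Lg) ∧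
      ∃ g : Lg →* P2 F, Function.Surjective g ∧ ∀ x : Lg, g x = 1 ↔ (x : G) ∈ coreIn K := by
  obtain ⟨L, hLn, hOL, hLi, F, iF, iFt, hFo, hF8, f, hfs, hfk⟩ :=
    C.IH K hK (hVK C.a_mem_V) (hVK C.b_mem_V) hfus
  haveI := hLn
  set W := coreIn K with hW
  set Lg := L.map K.subtype with hLg
  set eL := L.equivMapOfInjective K.subtype K.subtype_injective
  let g : Lg →* P2 F := f.comp eL.symm.toMonoidHom
  have hgk : ∀ x : Lg, g x = 1 ↔ (x : G) ∈ W := by
    intro x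
    have hval : (((eL.symm x : L) : K) : G) = x := congrArg Subtype.val (eL.apply_symm_apply x)
    rw [show g x = f (eL.symm x) from rfl, ← MonoidHom.mem_ker, hfk, mem_subgroupOf]
    constructor
    · exact fun h => ⟨_, h, hval⟩
    · rintro ⟨y, hy, hyx⟩
      have : y = ((eL.symm x : L) : K) := Subtype.ext (hyx.trans hval.symm)
      exact this ▸ hy
  have hmem2 : ∀ x ∈ K, x * x = 1 → x ∈ Lg := fun x hx hxx =>
    ⟨⟨x, hx⟩, mem_of_sq_of_odd_index hLi (Subtype.ext hxx), rfl⟩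
  have hinL : ∀ x s : G, x ∈ K → s ∈ K → s * s = 1 → s * x * s = x⁻¹ → x ∈ Lg := by
    intro x s hx hs hss hsx
    refine ⟨⟨x, hx⟩, ?_, rfl⟩
    show (⟨x, hx⟩ : K) ∈ L
    rw [← QuotientGroup.eq_one_iff]
    set π := QuotientGroup.mk' L
    have hs1 : π ⟨s, hs⟩ = 1 :=
      (QuotientGroup.eq_one_iff _).2 (mem_of_sq_of_odd_index hLi (Subtype.ext hss))
    refine eq_one_of_inv_eq ?_ (hLi.of_dvd_nat (by rw [Subgroup.index]; exact orderOf_dvd_natCard _))
    show (π ⟨x, hx⟩)⁻¹ = π ⟨x, hx⟩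
    rw [← map_inv, show (⟨x, hx⟩ : K)⁻¹ = ⟨s, hs⟩ * ⟨x, hx⟩ * ⟨s, hs⟩ from Subtype.ext hsx.symm,
      map_mul, map_mul, hs1, one_mul, mul_one]
  have haL : C.a ∈ Lg := hmem2 _ (hVK C.a_mem_V) C.ha.1
  have hbL : C.b ∈ Lg := hmem2 _ (hVK C.b_mem_V) C.hb.1
  have hgs : Function.Surjective g := hfs.comp eL.symm.surjective
  refine ⟨Lg, F, iF, iFt, map_subtype_le L, fun k hk => le_normalizer_map K.subtype
    ⟨⟨k, hk⟩, by rw [normalizer_eq_top]; exact mem_top _, rfl⟩, map_mono hOL, ?_, hFo, hF8, hmem2,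
    hinL, g, hgs, hgk⟩
  -- the two involutions are conjugate in `Lg`
  have hg1 : ∀ {x : G} (hx : x ∈ Lg), Inv x → g ⟨x, hx⟩ * g ⟨x, hx⟩ = 1 ∧ g ⟨x, hx⟩ ≠ 1 := by
    intro x hx hxI
    refine ⟨by rw [← map_mul, ← map_one g]; exact congrArg g (Subtype.ext hxI.1), fun h => hxI.2 ?_⟩
    exact eq_one_of_sq hxI.1 (odd_orderOf (CfsgLib.DGroup.odd_coreIn K) ((hgk _).1 h))
  obtain ⟨l, hl⟩ := isConj_iff.1 (CfsgLib.Linear.FourGroups.involutions_conj hFo (hg1 haL C.ha).1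
    (hg1 haL C.ha).2 (hg1 hbL C.hb).1 (hg1 hbL C.hb).2)
  obtain ⟨l, rfl⟩ := hgs l
  haveI : (W.subgroupOf Lg).Normal := (normal_subgroupOf_iff_le_normalizer (map_mono hOL)).2
    ((map_subtype_le L).trans (CfsgLib.DGroup.normalizer_coreIn K))
  have hInv : ∀ {x : Lg}, Inv (x : G) → Inv x :=
    fun h => ⟨Subtype.ext h.1, fun e => h.2 (congrArg Subtype.val e)⟩
  obtain ⟨k, -, hk⟩ := CfsgLib.DGroup.conj_of_eq (N := W.subgroupOf Lg)
    (by rw [Nat.card_congr (subgroupOfEquivOfLe (show W ≤ Lg from map_mono hOL)).toEquiv]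
        exact CfsgLib.DGroup.odd_coreIn K)
    (hInv (x := l * ⟨C.a, haL⟩ * l⁻¹) (C.ha.conj (l : G))) (hInv (x := ⟨C.b, hbL⟩) C.hb) (by
      rw [QuotientGroup.eq, mem_subgroupOf, ← hgk, map_mul, map_inv, map_mul, map_mul, map_inv, hl,
        inv_mul_cancel])
  refine ⟨(k : G) * l, mul_mem k.2 l.2, Or.inl ?_⟩
  have := congrArg Subtype.val hk
  rw [show (k : G) * l * C.a * ((k : G) * l)⁻¹ = k * (l * C.a * (l : G)⁻¹) * (k : G)⁻¹ by group]
  exact this

/-- Two inverted elements of different types are not both outside the odd core. -/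
theorem not_both {K : Subgroup G} (hK : K ≠ ⊤) (hVK : C.V ≤ K) (hfus : C.Fus K) {p : ℕ}
    [Fact p.Prime] (hp2 : p ≠ 2) {Y : Subgroup G} (hY : IsPGroup p Y) (hYK : Y ≤ K) {v i j : G}
    (hv : v = C.b ∨ v = C.c) (hi : i ∈ Y) (hj : j ∈ Y) (hiv : Commute i v)
    (hia : C.a * i * C.a = i⁻¹) (hjv : v * j * v = j⁻¹) : i ∈ coreIn K ∨ j ∈ coreIn K := by
  obtain ⟨Lg, F, _, _, -, -, -, -, hFo, hF8, hmem2, hinL, g, -, hgk⟩ := C.exists_shape hK hVK hfus
  set W := coreIn K with hW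
  have hWo : Odd (Nat.card W) := CfsgLib.DGroup.odd_coreIn K
  have hvV : v ∈ C.V := by rcases hv with rfl | rfl; exacts [C.b_mem_V, C.c_mem_V]
  have hvI : Inv v := by rcases hv with rfl | rfl; exacts [C.hb, C.hc]
  have hva : v ≠ C.a := by rcases hv with rfl | rfl; exacts [C.hne.symm, C.a_ne_c.symm]
  have haL : C.a ∈ Lg := hmem2 _ (hVK C.a_mem_V) C.ha.1
  have hvL : v ∈ Lg := hmem2 _ (hVK hvV) hvI.1
  have hiL : i ∈ Lg := hinL _ _ (hYK hi) (hVK C.a_mem_V) C.ha.1 hia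
  have hjL : j ∈ Lg := hinL _ _ (hYK hj) (hVK hvV) hvI.1 hjv
  have hnotW : ∀ {x : G}, x * x = 1 → x ≠ 1 → x ∉ W := fun {x} hx hx1 h =>
    hx1 (eq_one_of_sq hx (odd_orderOf hWo h))
  set za := g ⟨C.a, haL⟩ with hza
  set zv := g ⟨v, hvL⟩ with hzv
  have hcav : Commute C.a v := C.commute_of_mem_V C.a_mem_V hvV
  have hg2 : ∀ x : Lg, (x : G) * x = 1 → g x * g x = 1 := fun x hx => by
    rw [← map_mul, ← map_one g]; exact congrArg g (Subtype.ext hx)
  have hne : za ≠ zv := fun h => by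
    have h1 := (hgk (⟨C.a, haL⟩ * ⟨v, hvL⟩)).1 (by rw [map_mul, ← hza, ← hzv, h]; exact hg2 _ hvI.1)
    exact hnotW (show C.a * v * (C.a * v) = 1 by
      rw [hcav.symm.mul_mul_mul_comm, C.ha.1, hvI.1, one_mul])
      (fun e => hva (by rw [← inv_eq_of_mul_eq_one_right e, C.ha.inv_eq])) h1
  have hzc : Commute za zv := by
    show g _ * g _ = g _ * g _
    rw [← map_mul, ← map_mul]
    exact congrArg g (Subtype.ext hcav.eq)
  rw [← hgk ⟨i, hiL⟩, ← hgk ⟨j, hjL⟩]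
  by_contra hcon
  push Not at hcon
  have hti : Commute (g ⟨i, hiL⟩) zv := by
    show g _ * g _ = g _ * g _
    rw [← map_mul, ← map_mul]
    exact congrArg g (Subtype.ext hiv.eq)
  obtain ⟨k, hk⟩ := exists_pow_of_isPGroup hY hi
  set Q : Subgroup (P2 F) := (Y.subgroupOf Lg).map g with hQ
  have hQp : IsPGroup p Q := (hY.comap_subtype (K := Lg)).map g
  haveI : IsCyclic Q := cyclic_of_torus hFo hF8 hp2 (hg2 _ hvI.1)
    (fun e => hnotW hvI.1 hvI.2 ((hgk _).1 e)) (hg2 _ C.ha.1)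
    (fun e => hnotW C.ha.1 C.ha.2 ((hgk _).1 e)) hzc hne hti hcon.1
    ⟨k, by rw [← map_pow, ← map_one g]; exact congrArg g (Subtype.ext hk)⟩ hQp
  rcases eq_one_of_cyclic hp2 hQp (hg2 _ hvI.1)
    (mem_map_of_mem g (show (⟨i, hiL⟩ : Lg) ∈ Y.subgroupOf Lg from hi))
    (mem_map_of_mem g (show (⟨j, hjL⟩ : Lg) ∈ Y.subgroupOf Lg from hj)) hti (by
      show g _ * g _ * g _ = (g _)⁻¹
      rw [← map_mul, ← map_mul, ← map_inv]
      exact congrArg g (Subtype.ext hjv)) with h | h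
  exacts [hcon.1 h, hcon.2 h]

/-- Without fusion in `N(ZJ(Y))` the involution `a` centralises a `V`-invariant Sylow subgroup `Y`. -/
theorem commute_of_not_fus {p : ℕ} [Fact p.Prime] (hp2 : p ≠ 2) {Y Up : Subgroup G}
    (hUp : C.SylowU p Up) (hUY : Up ≤ Y) {S : Sylow p G} (hSY : (S : Subgroup G) = Y)
    (hYV : C.V ≤ normalizer (Y : Set G))
    (hfK : ¬ C.Fus (normalizer (Cfsg.centerThompsonAOf Y : Set G))) :
    ∀ y ∈ Y, Commute y C.a := by
  have hpo := (Fact.out : p.Prime).odd_of_ne_two hp2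
  have hYp : IsPGroup p Y := hSY ▸ S.2
  have hS : Y ≤ (S : Subgroup G) := hSY.ge
  have hYo : Odd (Nat.card Y) := by
    obtain ⟨k, hk⟩ := IsPGroup.iff_card.1 hYp; rw [hk]; exact hpo.pow
  have hpodd : ∀ {A : Subgroup G}, IsPGroup p A → ∀ {x : G}, x ∈ A → Odd (orderOf x) := fun hA x hx => by
    obtain ⟨k, hk⟩ := IsPGroup.iff_card.1 hA
    exact odd_orderOf (hk ▸ hpo.pow) hx
  let TU : Sylow p C.U := (hUp.isPGroup.comap_subtype (K := C.U)).toSylow hUp.index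
  set K := normalizer (Cfsg.centerThompsonAOf Y : Set G) with hK
  have hVK : C.V ≤ K := hYV.trans (normalizer_le_centerThompsonAOf Y)
  have hmove : ∀ v, v = C.b ∨ v = C.c → ∃ g : G, g * v * g⁻¹ = C.a := fun v hv => by
    rcases hv with rfl | rfl
    · exact ⟨C.rho⁻¹, by rw [← C.rho_a]; group⟩
    · exact ⟨C.rho, C.rho_c⟩
  have hnone : ∀ v, v = C.b ∨ v = C.c → ∀ x ∈ Y, Commute x v → C.a * x * C.a = x⁻¹ → x = 1 := by
    intro v hv x hx hxv hxa
    by_contra hx1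
    obtain ⟨g, hg⟩ := hmove v hv
    have hxo := hpodd hYp hx
    have hgU : g * x * g⁻¹ ∈ C.U := by
      refine C.mem_U_of_odd (C.mem_H.2 ?_) (by rw [CfsgLib.Invol.orderOf_conj_eq]; exact hxo)
      have := (Commute.conj_iff g).2 hxv
      rwa [hg] at this
    obtain ⟨k, hk⟩ := exists_pow_of_isPGroup hYp hx
    obtain ⟨j, -, hj⟩ := (Nat.dvd_prime_pow (Fact.out : p.Prime)).1 (orderOf_dvd_of_pow_eq_one hk)
    obtain ⟨T', hT'⟩ := (IsPGroup.of_card (p := p) (n := j) (by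
      rw [Nat.card_zpowers, ← Subgroup.orderOf_coe, CfsgLib.Invol.orderOf_conj_eq, hj]) :
      IsPGroup p (zpowers (⟨g * x * g⁻¹, hgU⟩ : C.U))).exists_le_sylow
    obtain ⟨u, hu⟩ := MulAction.exists_smul_eq C.U T' TU
    have hm : u * ⟨g * x * g⁻¹, hgU⟩ * u⁻¹ ∈ (TU : Subgroup C.U) := by
      rw [← hu]; exact ⟨⟨g * x * g⁻¹, hgU⟩, hT' (mem_zpowers _), rfl⟩
    have hmY : (u : G) * g * x * ((u : G) * g)⁻¹ ∈ Up := by
      have : (u : G) * (g * x * g⁻¹) * (u : G)⁻¹ ∈ Up := hm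
      rwa [show (u : G) * g * x * ((u : G) * g)⁻¹ = (u : G) * (g * x * g⁻¹) * (u : G)⁻¹ by group]
    obtain ⟨k, hkK, hkx⟩ := CfsgLib.ZJ.control_of_free hp2
      (CfsgLib.ZJ.zkind_centerThompsonA hp2) G (not_involves_qd hp2 C.not_eight_dvd) S _
      (CfsgLib.ZJ.stronglyClosed_self S) (zpowers x) ((u : G) * g)
      (zpowers_le.2 (hS hx)) (by
        rw [MonoidHom.map_zpowers, zpowers_le, hSY]
        exact hUY hmY)
    rw [hSY] at hkK
    set a' := k⁻¹ * C.a * k with ha'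
    have hax : Commute a' x := by
      have h1 : Commute C.a (k * x * k⁻¹) := by
        rw [hkx _ (mem_zpowers x)]
        exact (C.commute_a (hUp.le hmY)).symm
      have := (Commute.conj_iff k⁻¹).2 h1
      rwa [inv_inv, show k⁻¹ * (k * x * k⁻¹) * k = x by group] at this
    have h4 : ¬ 4 ∣ Nat.card ↥(K ⊓ centralizer ({x} : Set G)) := fun h =>
      C.not_four_dvd_of_real hxo hx1 (y := C.a) (by rw [C.ha.inv_eq]; exact hxa)
        (h.trans (card_dvd_of_le inf_le_right))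
    have hvV : v ∈ C.V := by rcases hv with rfl | rfl; exacts [C.b_mem_V, C.c_mem_V]
    have hvI : Inv v := by rcases hv with rfl | rfl; exacts [C.hb, C.hc]
    obtain ⟨l, hl, hlv⟩ := conj_of_not_four_dvd h4 hvI (w := a')
      (by have := C.ha.conj k⁻¹; rwa [inv_inv] at this)
      ⟨hVK hvV, mem_centralizer_singleton_iff.2 hxv.eq.symm⟩
      ⟨K.mul_mem (K.mul_mem (K.inv_mem hkK) (hVK C.a_mem_V)) hkK, mem_centralizer_singleton_iff.2 hax.eq⟩
    refine hfK ⟨(k * l)⁻¹, inv_mem (mul_mem hkK hl.1), ?_⟩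
    have e : (k * l)⁻¹ * C.a * (k * l)⁻¹⁻¹ = v := by
      calc (k * l)⁻¹ * C.a * (k * l)⁻¹⁻¹ = l⁻¹ * (k⁻¹ * C.a * k) * l := by group
        _ = l⁻¹ * (l * v * l⁻¹) * l := by rw [hlv]
        _ = v := by group
    rw [e]
    exact hv
  refine fun x₁ hx₁ => mem_centralizer_singleton_iff.1 (CfsgLib.Bender.GSide.le_of_four hpo hYp
    C.ha.orderOf C.hb.orderOf C.hab (hYV C.a_mem_V) (hYV C.b_mem_V)
    (le_normalizer (mem_centralizer_singleton_iff.2 rfl))
    (le_normalizer (mem_centralizer_singleton_iff.2 C.hab.symm.eq)) ?_ hx₁)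
  intro w y hw hy hwy
  refine mem_centralizer_singleton_iff.2 ?_
  by_cases hwa : w = C.a
  · subst hwa; exact hwy.symm.eq
  have hwv : w = C.b ∨ w = C.c := hw.resolve_left hwa
  have hwV : w ∈ C.V := by rcases hwv with rfl | rfl; exacts [C.b_mem_V, C.c_mem_V]
  have haw : C.a ∈ normalizer (centralizer ({w} : Set G) : Set G) :=
    le_normalizer (mem_centralizer_singleton_iff.2 (C.commute_of_mem_V C.a_mem_V hwV).eq)
  obtain ⟨f, hf, i, hi, hfa, hia, rfl⟩ := exists_split C.ha.1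
    (hYo.of_dvd_nat (card_dvd_of_le inf_le_left))
    (show C.a ∈ normalizer ((Y ⊓ centralizer ({w} : Set G) : Subgroup G) : Set G) from
      mem_normalizer_iff.2 fun x => by
        rw [mem_inf, mem_inf, mem_normalizer_iff.1 (hYV C.a_mem_V) x, mem_normalizer_iff.1 haw x])
    (⟨hy, mem_centralizer_singleton_iff.2 hwy.symm.eq⟩ : y ∈ Y ⊓ centralizer ({w} : Set G))
  rw [hnone w hwv i hi.1 (mem_centralizer_singleton_iff.1 hi.2) hia, mul_one]
  exact hfa.eq

/-- Invariant `p`-groups containing a Sylow subgroup of `U` and moved by `a` are linked. -/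
theorem linked {p : ℕ} [Fact p.Prime] (hp2 : p ≠ 2) {P0 Up : Subgroup G} (hUp : C.SylowU p Up)
    (hle : Up ≤ P0) (hP0 : IsPGroup p P0) (hP0V : C.V ≤ normalizer (P0 : Set G))
    (hbad : ∃ x ∈ P0, ¬ Commute x C.a) :
    ∃ n : G, n ∈ normalizer (C.V : Set G) ∧ n * C.a * n⁻¹ = C.b ∧ n * C.b * n⁻¹ = C.c ∧
      n * C.c * n⁻¹ = C.a ∧ ∀ x ∈ P0, (Commute x C.b → n⁻¹ * x * n ∈ Up) ∧
        (Commute x C.c → n * x * n⁻¹ ∈ Up) := by
  classical
  obtain ⟨Y, hPY, ⟨hYp, hYV⟩, hYmax⟩ := exists_maximal_ge_of_wellFoundedGT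
    (fun Y : Subgroup G => IsPGroup p Y ∧ C.V ≤ normalizer (Y : Set G)) P0 ⟨hP0, hP0V⟩
  have hpo := (Fact.out : p.Prime).odd_of_ne_two hp2
  have hYo : Odd (Nat.card Y) := by
    obtain ⟨k, hk⟩ := IsPGroup.iff_card.1 hYp; rw [hk]; exact hpo.pow
  have hpodd : ∀ {A : Subgroup G}, IsPGroup p A → ∀ {x : G}, x ∈ A → Odd (orderOf x) := fun hA x hx => by
    obtain ⟨k, hk⟩ := IsPGroup.iff_card.1 hA
    exact odd_orderOf (hk ▸ hpo.pow) hx
  let TU : Sylow p C.U := (hUp.isPGroup.comap_subtype (K := C.U)).toSylow hUp.index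
  -- the part of `Y` centralised by `a`
  have hYa : ∀ x ∈ Y, Commute x C.a → x ∈ Up := by
    intro x hx hxa
    have hxU : x ∈ C.U := C.mem_U_of_odd (C.mem_H.2 hxa) (hpodd hYp hx)
    have h1 : Up.subgroupOf C.U ≤ Y.subgroupOf C.U := comap_mono (hle.trans hPY)
    have h2 := TU.3 (hYp.comap_subtype (K := C.U)) h1
    exact (h2.le (show (⟨x, hxU⟩ : C.U) ∈ Y.subgroupOf C.U from hx) :)
  -- a cyclic permutation with both properties
  suffices hmain : ∃ n : G, n ∈ normalizer (C.V : Set G) ∧ n * C.a * n⁻¹ = C.b ∧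
      n * C.b * n⁻¹ = C.c ∧ n * C.c * n⁻¹ = C.a ∧ ∃ T : Subgroup G, T ≤ Y ∧
        n ∈ normalizer (T : Set G) ∧
        ∀ x ∈ P0, Commute x C.b ∨ Commute x C.c → x ∈ T by
    obtain ⟨n, hnV, hna, hnb, hnc, T, hTY, hnT, hT⟩ := hmain
    refine ⟨n, hnV, hna, hnb, hnc, fun x hx => ⟨fun hxb => ?_, fun hxc => ?_⟩⟩
    · refine hYa _ (hTY (conj_mem' hnT (hT x hx (Or.inl hxb)))) ?_
      have := (Commute.conj_iff n⁻¹).2 hxb
      rwa [inv_inv, show n⁻¹ * C.b * n = C.a by rw [← hna]; group] at this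
    · refine hYa _ (hTY (conj_mem hnT (hT x hx (Or.inr hxc)))) ?_
      have := (Commute.conj_iff n).2 hxc
      rwa [hnc] at this
  by_cases hfY : C.Fus (normalizer (Y : Set G))
  · obtain ⟨n, hn, hnV, hna, hnb, hnc⟩ := C.exists_cycle (hYV C.a_mem_V) (hYV C.b_mem_V) hfY
    exact ⟨n, hnV, hna, hnb, hnc, Y, le_rfl, hn, fun x hx _ => hPY hx⟩
  have hsolV : Group.IsSolvable C.V :=
    Group.isSolvable_of_comm fun x y => Subtype.ext (C.commute_of_mem_V x.2 y.2)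
  have hcop : ∀ {A : Subgroup G}, Odd (Nat.card A) → (Nat.card C.V).Coprime (Nat.card A) := fun h => by
    rw [C.card_V]; exact ((Nat.coprime_two_left.2 h).pow_left 2 :)
  -- `Y` is a Sylow subgroup of `G`
  obtain ⟨S, hS⟩ := hYp.exists_le_sylow
  have hSY : (S : Subgroup G) = Y := by
    by_contra hne
    obtain ⟨O, hON, hNO, hOo, hOodd⟩ := C.exists_compl hYV hfY
    obtain ⟨Z, hYZ, hZS, hZn⟩ :=
      CfsgLib.Bender.GSide.exists_between (lt_of_le_of_ne hS (Ne.symm hne)) S.2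
    have hZp := S.2.to_le hZS
    have hZO : Z ≤ O := fun z hz => hOodd z (hZn hz) (hpodd hZp hz)
    obtain ⟨P, hYP, hPV⟩ := CfsgLib.CoprimeAct.exists_invariant_sylow_ge (A := C.V) (K := O)
      (fun v hv => hNO (hYV hv)) (hcop hOo) (Or.inl hsolV) p (hYZ.le.trans hZO) hYp hYV
    have hPY : (P : Subgroup O).map O.subtype = Y := le_antisymm (hYmax ⟨P.2.map _, hPV⟩ hYP) hYP
    obtain ⟨P', hP'⟩ := (hZp.comap_subtype (K := O)).exists_le_sylow
    have h1 : Nat.card Z ≤ Nat.card Y := by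
      rw [← hPY, card_map_of_injective O.subtype_injective, P.card_eq_multiplicity,
        ← P'.card_eq_multiplicity, ← Nat.card_congr (subgroupOfEquivOfLe hZO).toEquiv]
      exact card_le_of_le hP'
    exact absurd (CfsgLib.Solvable.card_lt_of_lt hYZ) (not_lt.2 h1)
  obtain ⟨x₀, hx₀, hx₀a⟩ := hbad
  have hY1 : Y ≠ ⊥ := fun h => by
    have := hPY hx₀
    rw [h, mem_bot] at this
    exact hx₀a (this ▸ Commute.one_left _)
  set X := Cfsg.centerThompsonAOf Y with hX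
  set K := normalizer (X : Set G) with hK
  have hYK : Y ≤ K := le_normalizer.trans (normalizer_le_centerThompsonAOf Y)
  have hVK : C.V ≤ K := hYV.trans (normalizer_le_centerThompsonAOf Y)
  have hKtop : K ≠ ⊤ := C.normalizer_ne_top (CfsgLib.Fusion.centerThompsonAOf_ne_bot hYp hY1)
    fun h => by
      have h2 : Even (Nat.card X) := even_iff_two_dvd.2 (C.ha.orderOf ▸
        Subgroup.orderOf_dvd_natCard X (h ▸ mem_top C.a))
      exact Nat.not_odd_iff_even.2 h2 (hYo.of_dvd_nat (card_dvd_of_le (centerThompsonAOf_le Y)))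
  -- a conjugation carrying the part at `v` into `U`
  have hmove : ∀ v, v = C.b ∨ v = C.c → ∃ g : G, g * v * g⁻¹ = C.a := fun v hv => by
    rcases hv with rfl | rfl
    · exact ⟨C.rho⁻¹, by rw [← C.rho_a]; group⟩
    · exact ⟨C.rho, C.rho_c⟩
  by_cases hfK : C.Fus K
  swap
  · exact absurd (C.commute_of_not_fus hp2 hUp (hle.trans hPY) hSY hYV hfK _ (hPY hx₀)) hx₀a
  -- fusion in `K`: the core meets `Y` in a Sylow subgroup
  set W := coreIn K with hW
  have hWK : W ≤ K := CfsgLib.DGroup.coreIn_le K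
  have hWn : K ≤ normalizer (W : Set G) := CfsgLib.DGroup.normalizer_coreIn K
  set YW := Y ⊓ W with hYW
  let SK : Sylow p K := (hYp.comap_subtype (K := K)).toSylow fun h => by
    refine S.not_dvd_index ?_
    rw [hSY, ← relIndex_mul_index hYK]
    exact dvd_mul_of_dvd_left h _
  have hYWV : C.V ≤ normalizer (YW : Set G) := fun v hv => mem_normalizer_iff.2 fun x => by
    rw [hYW, mem_inf, mem_inf, mem_normalizer_iff.1 (hYV hv) x, mem_normalizer_iff.1 (hWn (hVK hv)) x]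
  haveI hWn' : (W.subgroupOf K).Normal := (normal_subgroupOf_iff_le_normalizer hWK).2 hWn
  obtain ⟨PW, hPWge, hPWV⟩ := CfsgLib.CoprimeAct.exists_invariant_sylow_ge (A := C.V) (K := W)
    (hVK.trans hWn) (hcop (CfsgLib.DGroup.odd_coreIn K)) (Or.inl hsolV) p (inf_le_right : YW ≤ W)
    (hYp.to_le inf_le_left) hYWV
  have hPWeq : (PW : Subgroup W).map W.subtype = YW := by
    refine (eq_of_le_of_card_ge hPWge ?_).symm
    set Q := (PW : Subgroup W).map W.subtype with hQ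
    have hQK : Q ≤ K := (map_subtype_le _).trans hWK
    obtain ⟨T', hT'⟩ := ((PW.2.map W.subtype).comap_subtype (K := K)).exists_le_sylow
    obtain ⟨k, hk⟩ := MulAction.exists_smul_eq K T' SK
    have hle' : Q.map (MulAut.conj (k : G)).toMonoidHom ≤ YW := by
      rintro _ ⟨x, hx, rfl⟩
      refine ⟨?_, conj_mem (hWn k.2) (map_subtype_le _ hx)⟩
      have h1 : k * ⟨x, hQK hx⟩ * k⁻¹ ∈ (SK : Subgroup K) := by
        rw [← hk]; exact ⟨⟨x, hQK hx⟩, hT' hx, rfl⟩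
      exact h1
    have := card_le_of_le hle'
    rwa [card_map_of_injective (MulAut.conj (k : G)).injective] at this
  obtain ⟨Lg, F, _, _, hLK, hLn, hWL, hfL, hFo, hF8, hmem2, -, g, -, hgk⟩ :=
    C.exists_shape hKtop hVK hfK
  have hVL : C.V ≤ Lg := fun v hv => hmem2 v (hVK hv) (C.sq_of_mem_V hv)
  have hLD : ∀ x ∈ Lg, x ∈ C.D → x ∈ W := by
    intro x hx hxD
    have hWo : Odd (Nat.card W) := CfsgLib.DGroup.odd_coreIn K
    have h2 : ∀ v : G, Inv v → ∀ hv : v ∈ Lg, g ⟨v, hv⟩ * g ⟨v, hv⟩ = 1 ∧ g ⟨v, hv⟩ ≠ 1 := by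
      intro v hv hvL
      refine ⟨by rw [← map_mul, ← map_one g]; exact congrArg g (Subtype.ext hv.1), fun h => hv.2 ?_⟩
      exact eq_one_of_sq hv.1 (odd_orderOf hWo ((hgk _).1 h))
    obtain ⟨ha2, ha1⟩ := h2 _ C.ha (hVL C.a_mem_V)
    obtain ⟨hb2, hb1⟩ := h2 _ C.hb (hVL C.b_mem_V)
    have hcm : ∀ u v : Lg, Commute (u : G) v → Commute (g u) (g v) := fun u v h => by
      show g _ * g _ = g _ * g _
      rw [← map_mul, ← map_mul]
      exact congrArg g (Subtype.ext h.eq)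
    obtain ⟨-, -, T, -, -, -, -, -, -, hTmem, hTinv⟩ := psl_torus hFo hF8 ha2 ha1 hb2 hb1
      (hcm _ _ C.hab.symm) (fun e => by
        have h := (hgk (⟨C.b, hVL C.b_mem_V⟩ * ⟨C.a, hVL C.a_mem_V⟩)).1 (by rw [map_mul, e]; exact ha2)
        exact C.hc.2 (eq_one_of_sq C.hc.1 (odd_orderOf hWo (by rwa [c, C.hab.eq]))))
    have hxo : Odd (orderOf (g ⟨x, hx⟩)) := (odd_orderOf C.odd_D hxD).of_dvd_nat
      ((orderOf_map_dvd g _).trans (Subgroup.orderOf_coe (⟨x, hx⟩ : Lg)).symm.dvd)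
    have h1 := hTinv _ (hTmem _ (hcm ⟨x, hx⟩ _ (C.commute_of_mem_D hxD C.a_mem_V)) hxo)
    rw [conj_eq_of_commute hb2 (hcm ⟨x, hx⟩ _ (C.commute_of_mem_D hxD C.b_mem_V))] at h1
    exact (hgk _).1 (eq_one_of_inv_eq h1.symm hxo)
  -- a cycle normalising `Y ∩ W`
  set K1 := Lg ⊓ normalizer (YW : Set G) with hK1
  have hfK1 : C.Fus K1 := by
    obtain ⟨n₀, hn₀L, hn₀V, hna, hnb, hnc⟩ := C.exists_cycle (hVL C.a_mem_V) (hVL C.b_mem_V) hfL
    have hn₀ : n₀ ∈ K := hLK hn₀L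
    set Q := YW.map (MulAut.conj n₀).toMonoidHom with hQ
    have hQW : Q ≤ W := by
      rintro _ ⟨x, hx, rfl⟩; exact conj_mem (hWn hn₀) hx.2
    have hQV : C.V ≤ normalizer (Q : Set G) := fun v hv => by
      have h1 := le_normalizer_map (MulAut.conj n₀).toMonoidHom
        ⟨n₀⁻¹ * v * n₀, hYWV (conj_mem' hn₀V hv), rfl⟩
      rwa [show (MulAut.conj n₀).toMonoidHom (n₀⁻¹ * v * n₀) = v by
        show n₀ * (n₀⁻¹ * v * n₀) * n₀⁻¹ = v
        group] at h1
    have hQc : Nat.card Q = Nat.card (PW : Subgroup W) := by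
      rw [hQ, card_map_of_injective (MulAut.conj n₀).injective, ← hPWeq,
        card_map_of_injective W.subtype_injective]
    let SQ : Sylow p W := Sylow.ofCard (Q.subgroupOf W) (by
      rw [Nat.card_congr (subgroupOfEquivOfLe hQW).toEquiv, hQc, PW.card_eq_multiplicity])
    have hSQ : (SQ : Subgroup W).map W.subtype = Q := by
      rw [Sylow.coe_ofCard, map_subgroupOf_eq_of_le hQW]
    obtain ⟨c, hc, hcQ⟩ := CfsgLib.CoprimeAct.invariant_sylow_conj (hVK.trans hWn)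
      (hcop (CfsgLib.DGroup.odd_coreIn K)) (Or.inl hsolV) p SQ PW (by rw [hSQ]; exact hQV) hPWV
    refine ⟨(c : G) * n₀, ⟨mul_mem (hWL c.2) hn₀L, mem_normalizer_iff_map_conj_eq.2 ?_⟩, Or.inl ?_⟩
    · refine eq_of_le_of_card_ge ?_ (card_map_of_injective (MulAut.conj ((c : G) * n₀)).injective).ge
      rintro _ ⟨x, hx, rfl⟩
      rw [← hPWeq]
      have hmem : n₀ * x * n₀⁻¹ ∈ W := hQW ⟨x, hx, rfl⟩
      refine ⟨c * ⟨_, hmem⟩ * c⁻¹, ?_, ?_⟩
      · rw [← hcQ]; exact ⟨⟨_, hmem⟩, ⟨x, hx, rfl⟩, rfl⟩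
      · show (c : G) * (n₀ * x * n₀⁻¹) * (c : G)⁻¹ = (c : G) * n₀ * x * ((c : G) * n₀)⁻¹
        group
    · rw [show (c : G) * n₀ * C.a * ((c : G) * n₀)⁻¹ = c * (n₀ * C.a * n₀⁻¹) * (c : G)⁻¹ by group,
        hna, (mem_centralizer_iff.1 hc _ C.b_mem_V).symm, mul_inv_cancel_right]
  -- adjust to normalise the fixed part of `Y`
  have hYnW : Y ≤ normalizer (YW : Set G) := fun y hy => mem_normalizer_iff.2 fun x => by
    rw [hYW, mem_inf, mem_inf, mem_normalizer_iff.1 (le_normalizer hy) x,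
      mem_normalizer_iff.1 (hWn (hYK hy)) x]
  have hVK1 : C.V ≤ K1 := le_inf hVL hYWV
  obtain ⟨n₁, hn₁, hn₁V, hna₁, hnb₁, hnc₁⟩ :=
    C.exists_cycle (hVK1 C.a_mem_V) (hVK1 C.b_mem_V) hfK1
  set YD := Y ⊓ C.D with hYD
  set M1 := W ⊓ C.D ⊓ normalizer (YW : Set G) with hM1
  have hM1n : YD ≤ normalizer (M1 : Set G) := fun y hy => mem_normalizer_iff.2 fun x => by
    rw [hM1, mem_inf, mem_inf, mem_inf, mem_inf, mem_normalizer_iff.1 (hWn (hYK hy.1)) x,
      mem_normalizer_iff.1 (le_normalizer hy.2) x,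
      mem_normalizer_iff.1 (le_normalizer (hYnW hy.1)) x]
  set M2 := YD ⊔ M1 with hM2
  -- `n₁` moves `Y ∩ D` only inside `M2`
  have hmove1 : ∀ y ∈ YD, n₁ * y * n₁⁻¹ ∈ M2 := by
    intro y hy
    have hw : y⁻¹ * (n₁ * y * n₁⁻¹) ∈ M1 := by
      have hD : y⁻¹ * (n₁ * y * n₁⁻¹) ∈ C.D := mul_mem (inv_mem hy.2) (C.conj_mem_D hn₁V hy.2)
      have hN : y⁻¹ * (n₁ * y * n₁⁻¹) ∈ normalizer (YW : Set G) := mul_mem (inv_mem (hYnW hy.1))
        (mul_mem (mul_mem hn₁.2 (hYnW hy.1)) (inv_mem hn₁.2))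
      refine ⟨⟨hLD _ ?_ hD, hD⟩, hN⟩
      rw [show y⁻¹ * (n₁ * y * n₁⁻¹) = y⁻¹ * n₁ * y * n₁⁻¹ by group]
      exact mul_mem (conj_mem' (hLn (hYK hy.1)) hn₁.1) (inv_mem hn₁.1)
    have := mul_mem (mem_sup_left hy : y ∈ M2) (mem_sup_right hw : _ ∈ M2)
    rwa [show y * (y⁻¹ * (n₁ * y * n₁⁻¹)) = n₁ * y * n₁⁻¹ by group] at this
  -- `Y ∩ D` is a Sylow subgroup of `M2`
  have hYD2 : YD ≤ M2 := le_sup_left
  have hYDp : IsPGroup p YD := hYp.to_le inf_le_left
  have hYDi : ¬ p ∣ (YD.subgroupOf M2).index := by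
    have hci : ∀ P : Subgroup G, IsPGroup p P → P ≤ M1 → Nat.card P ≤ Nat.card ↥(YD ⊓ M1) := by
      intro P hP hPM
      have hPc : ∀ x ∈ P, ∀ v ∈ C.V, Commute x v := fun x hx v hv =>
        C.commute_of_mem_D (hPM hx).1.2 hv
      have hPV : C.V ≤ normalizer (P : Set G) := fun v hv => centralizer_le_normalizer _
        (mem_centralizer_iff.2 fun x hx => (hPc x hx v hv).eq)
      obtain ⟨P1, hPP1, hP1V⟩ := CfsgLib.CoprimeAct.exists_invariant_sylow_ge (A := C.V) (K := W)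
        (hVK.trans hWn) (hcop (CfsgLib.DGroup.odd_coreIn K)) (Or.inl hsolV) p
        (fun x hx => (hPM hx).1.1 : P ≤ W) hP hPV
      obtain ⟨k, hk, hkP⟩ := CfsgLib.CoprimeAct.invariant_sylow_conj (hVK.trans hWn)
        (hcop (CfsgLib.DGroup.odd_coreIn K)) (Or.inl hsolV) p P1 PW hP1V hPWV
      have hkD : (k : G) ∈ C.D := C.mem_D_of_odd (mem_centralizer_iff.1 hk _ C.a_mem_V).symm
        (mem_centralizer_iff.1 hk _ C.b_mem_V).symm (odd_orderOf (CfsgLib.DGroup.odd_coreIn K) k.2)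
      have hle' : P.map (MulAut.conj (k : G)).toMonoidHom ≤ YD ⊓ M1 := by
        rintro _ ⟨x, hx, rfl⟩
        have h1 : (k : G) * x * (k : G)⁻¹ ∈ YW := by
          obtain ⟨x', hx', hxe⟩ := hPP1 hx
          rw [← hPWeq]
          refine ⟨k * x' * k⁻¹, ?_, by rw [← hxe]; rfl⟩
          rw [← hkP]; exact ⟨x', hx', rfl⟩
        have h2 : (k : G) * x * (k : G)⁻¹ ∈ C.D := mul_mem (mul_mem hkD (hPM hx).1.2) (inv_mem hkD)
        exact ⟨⟨h1.1, h2⟩, ⟨h1.2, h2⟩, le_normalizer h1⟩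
      have := card_le_of_le hle'
      rwa [card_map_of_injective (MulAut.conj (k : G)).injective] at this
    intro hd
    have e := CfsgLib.Solvable.card_sup_mul_card_inf hM1n
    rw [← hM2] at e
    have e2 := card_mul_index (YD.subgroupOf M2)
    rw [Nat.card_congr (subgroupOfEquivOfLe hYD2).toEquiv] at e2
    obtain ⟨P⟩ : Nonempty (Sylow p M1) := inferInstance
    have h1 := hci _ (P.2.map M1.subtype) (map_subtype_le _)
    rw [card_map_of_injective M1.subtype_injective, P.card_eq_multiplicity] at h1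
    obtain ⟨k, hk⟩ := IsPGroup.iff_card.1 (hYDp.to_le (inf_le_left : YD ⊓ M1 ≤ YD))
    rw [hk] at h1 e
    have h2 : p ^ k * p ∣ Nat.card M1 := by
      obtain ⟨i, hi⟩ := hd
      refine ⟨i, Nat.eq_of_mul_eq_mul_left (Nat.card_pos (α := YD)) ?_⟩
      rw [← e, ← e2, hi]; ring
    have h3 := ((Fact.out : p.Prime).pow_dvd_iff_le_factorization Nat.card_pos.ne').1
      (by rwa [← pow_succ] at h2 : p ^ (k + 1) ∣ Nat.card M1)
    have h4 := (Nat.pow_le_pow_iff_right (Fact.out : p.Prime).one_lt).1 h1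
    omega
  obtain ⟨d₁, hd₁, hnYD⟩ : ∃ d ∈ C.D ⊓ normalizer (YW : Set G), d * n₁ ∈ normalizer (YD : Set G) := by
    let T : Sylow p M2 := (hYDp.comap_subtype (K := M2)).toSylow hYDi
    set Q := YD.map (MulAut.conj n₁).toMonoidHom with hQ
    have hQD : Q ≤ M2 := by rintro _ ⟨x, hx, rfl⟩; exact hmove1 x hx
    obtain ⟨T', hT'⟩ :=
      ((hYDp.map (MulAut.conj n₁).toMonoidHom).comap_subtype (K := M2)).exists_le_sylow
    obtain ⟨d, hd⟩ := MulAction.exists_smul_eq M2 T' T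
    refine ⟨d, (sup_le (le_inf inf_le_right (inf_le_left.trans hYnW))
      (le_inf (inf_le_left.trans inf_le_right) inf_le_right) : M2 ≤ _) d.2,
      mem_normalizer_iff_map_conj_eq.2 (eq_of_le_of_card_ge ?_
      (card_map_of_injective (MulAut.conj ((d : G) * n₁)).injective).ge)⟩
    rintro _ ⟨x, hx, rfl⟩
    have hmem : n₁ * x * n₁⁻¹ ∈ M2 := hQD ⟨x, hx, rfl⟩
    have h1 : d * ⟨_, hmem⟩ * d⁻¹ ∈ (T : Subgroup M2) := by
      rw [← hd]; exact ⟨⟨_, hmem⟩, hT' ⟨x, hx, rfl⟩, rfl⟩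
    show (d : G) * n₁ * x * ((d : G) * n₁)⁻¹ ∈ YD
    rw [show (d : G) * n₁ * x * ((d : G) * n₁)⁻¹ = (d : G) * (n₁ * x * n₁⁻¹) * (d : G)⁻¹ by group]
    exact h1
  set n := d₁ * n₁ with hn
  have hd₁V : ∀ v ∈ C.V, d₁ * v * d₁⁻¹ = v := fun v hv => by
    rw [(C.commute_of_mem_D hd₁.1 hv).eq, mul_inv_cancel_right]
  have hnV : n ∈ normalizer (C.V : Set G) := mul_mem (mem_normalizer_iff.2 fun x => ⟨fun hx => by
    rw [hd₁V x hx]; exact hx, fun hx => by
      have h := hd₁V _ hx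
      have e : d₁ * x * d₁⁻¹ = x := by
        calc d₁ * x * d₁⁻¹ = d₁⁻¹ * (d₁ * (d₁ * x * d₁⁻¹) * d₁⁻¹) * d₁ := by group
          _ = d₁⁻¹ * (d₁ * x * d₁⁻¹) * d₁ := by rw [h]
          _ = x := by group
      rwa [e] at hx⟩) hn₁V
  have hnW : n ∈ normalizer (YW : Set G) := mul_mem hd₁.2 hn₁.2
  have hmap : ∀ {v w : G}, w ∈ C.V → n₁ * v * n₁⁻¹ = w → n * v * n⁻¹ = w := fun {v w} hw h => by
    rw [hn, show d₁ * n₁ * v * (d₁ * n₁)⁻¹ = d₁ * (n₁ * v * n₁⁻¹) * d₁⁻¹ by group, h, hd₁V w hw]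
  have hna := hmap C.b_mem_V hna₁
  have hnb := hmap C.c_mem_V hnb₁
  have hnc := hmap C.a_mem_V hnc₁
  set T := YW ⊔ YD with hT
  have hTY : T ≤ Y := sup_le inf_le_left inf_le_left
  have hnT : n ∈ normalizer (T : Set G) := mem_normalizer_iff_map_conj_eq.2 (by
    rw [hT, Subgroup.map_sup, mem_normalizer_iff_map_conj_eq.1 hnW,
      mem_normalizer_iff_map_conj_eq.1 hnYD])
  -- modulo `W` nothing in `T` is inverted
  have hTW : ∀ i ∈ T, C.a * i * C.a = i⁻¹ → i ∈ W := by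
    intro i hi hia
    have hYDn : YD ≤ normalizer (YW : Set G) := fun x hx => hYnW hx.1
    rw [hT, sup_comm] at hi
    obtain ⟨d, hd, w, hw, rfl⟩ := (CfsgLib.Solvable.mem_sup_of_le_normalizer hYDn).1 hi
    have haW := hWn (hVK C.a_mem_V)
    have hda : C.a * d * C.a = d :=
      conj_eq_of_commute C.ha.1 (C.commute_of_mem_D hd.2 C.a_mem_V)
    rw [invol_mul C.ha.1, hda, mul_inv_rev] at hia
    have hwa : C.a * w * C.a ∈ W := by
      rw [← conj_invol_eq C.ha.1]; exact conj_mem haW hw.2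
    have h2 : d * d ∈ W := by
      have e2 : d * (C.a * w * C.a) = w⁻¹ * d⁻¹ := hia
      have hdK : d ∈ K := hYK hd.1
      have e4 : d * d = d * w⁻¹ * d⁻¹ * (C.a * w * C.a)⁻¹ := by
        calc d * d = d * (d * (C.a * w * C.a)) * (C.a * w * C.a)⁻¹ := by group
          _ = d * (w⁻¹ * d⁻¹) * (C.a * w * C.a)⁻¹ := by rw [e2]
          _ = _ := by group
      rw [e4]
      exact mul_mem (conj_mem (hWn hdK) (inv_mem hw.2)) (inv_mem hwa)
    have hdW : d ∈ W := by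
      obtain ⟨m, hm⟩ := hpodd hYp hd.1
      have e : d = (d * d) ^ (m + 1) := by
        rw [(Commute.refl d).mul_pow, ← pow_add, show m + 1 + (m + 1) = orderOf d + 1 by omega,
          pow_succ, pow_orderOf_eq_one, one_mul]
      rw [e]; exact pow_mem h2 _
    exact mul_mem hdW hw.2
  refine ⟨n, hnV, hna, hnb, hnc, T, hTY, hnT, fun x hx hxv => ?_⟩
  obtain ⟨v, hv, hxv⟩ : ∃ v, (v = C.b ∨ v = C.c) ∧ Commute x v :=
    hxv.elim (fun h => ⟨_, Or.inl rfl, h⟩) fun h => ⟨_, Or.inr rfl, h⟩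
  have hvV : v ∈ C.V := by rcases hv with rfl | rfl; exacts [C.b_mem_V, C.c_mem_V]
  have hnorm : ∀ {s t : G}, s ∈ C.V → t ∈ C.V →
      s ∈ normalizer ((Y ⊓ centralizer ({t} : Set G) : Subgroup G) : Set G) := fun {s t} hs ht =>
    mem_normalizer_iff.2 fun z => by
      rw [mem_inf, mem_inf, mem_normalizer_iff.1 (hYV hs) z, mem_normalizer_iff.1 (le_normalizer
        (mem_centralizer_singleton_iff.2 (C.commute_of_mem_V hs ht).eq) :
        s ∈ normalizer (centralizer ({t} : Set G) : Set G)) z]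
  obtain ⟨d, hd, i, hi, hda, hia, rfl⟩ := exists_split C.ha.1
    (hYo.of_dvd_nat (card_dvd_of_le inf_le_left)) (hnorm C.a_mem_V hvV)
    (⟨hPY hx, mem_centralizer_singleton_iff.2 hxv.eq⟩ : x ∈ Y ⊓ centralizer ({v} : Set G))
  have hdD : d ∈ C.D := by
    have hdv : Commute d v := mem_centralizer_singleton_iff.1 hd.2
    refine C.mem_D_of_odd hda ?_ (hpodd hYp hd.1)
    rcases hv with rfl | rfl
    · exact hdv
    · have := hda.mul_right hdv
      rwa [c, ← mul_assoc, C.ha.1, one_mul] at this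
  refine mul_mem (mem_sup_right ⟨hd.1, hdD⟩) ?_
  by_contra hiT
  have hiW : i ∉ W := fun h => hiT (mem_sup_left ⟨hi.1, h⟩)
  -- counting: the part at `a` is not inside `T`
  have hiv : Commute i v := mem_centralizer_singleton_iff.1 hi.2
  obtain ⟨j, hj, hjT⟩ : ∃ j ∈ Y ⊓ centralizer ({C.a} : Set G), j ∉ T := by
    by_contra hcon
    push Not at hcon
    obtain ⟨g, hg⟩ := hmove v hv
    set Yv := Y ⊓ centralizer ({v} : Set G) with hYv
    set Ya := Y ⊓ centralizer ({C.a} : Set G) with hYa'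
    have hgle : Nat.card Yv ≤ Nat.card Ya := by
      set Q := Yv.map (MulAut.conj g).toMonoidHom with hQ
      have hQU : Q ≤ C.U := by
        rintro _ ⟨z, hz, rfl⟩
        refine C.mem_U_of_odd (C.mem_H.2 ?_) ?_
        · have := (Commute.conj_iff g).2 (mem_centralizer_singleton_iff.1 hz.2 : Commute z v)
          rwa [hg] at this
        · show Odd (orderOf (g * z * g⁻¹))
          rw [CfsgLib.Invol.orderOf_conj_eq]; exact hpodd hYp hz.1
      obtain ⟨T', hT'⟩ := (((hYp.to_le inf_le_left : IsPGroup p Yv).map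
        (MulAut.conj g).toMonoidHom).comap_subtype (K := C.U)).exists_le_sylow
      have h1 : Nat.card Q ≤ Nat.card Up := by
        rw [← Nat.card_congr (subgroupOfEquivOfLe hQU).toEquiv,
          ← Nat.card_congr (subgroupOfEquivOfLe hUp.le).toEquiv]
        refine (card_le_of_le hT').trans (le_of_eq ?_)
        rw [T'.card_eq_multiplicity, ← TU.card_eq_multiplicity]
        rfl
      rw [hQ, card_map_of_injective (MulAut.conj g).injective] at h1
      exact h1.trans (card_le_of_le (le_inf (hle.trans hPY) fun z hz =>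
        mem_centralizer_singleton_iff.2 (C.commute_a (hUp.le hz)).eq))
    obtain ⟨m, hm, hmv⟩ : ∃ m, m ∈ normalizer (T : Set G) ∧ m * C.a * m⁻¹ = v := by
      rcases hv with rfl | rfl
      · exact ⟨n, hnT, hna⟩
      · exact ⟨n⁻¹, inv_mem hnT, by rw [← hnc]; group⟩
    have hle' : Ya.map (MulAut.conj m).toMonoidHom ≤ T ⊓ centralizer ({v} : Set G) := by
      rintro _ ⟨z, hz, rfl⟩
      refine ⟨conj_mem hm (hcon z hz), mem_centralizer_singleton_iff.2 ?_⟩
      have := (Commute.conj_iff m).2 (mem_centralizer_singleton_iff.1 hz.2 : Commute z C.a)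
      rwa [hmv] at this
    have h1 := card_le_of_le hle'
    rw [card_map_of_injective (MulAut.conj m).injective] at h1
    have h2 : T ⊓ centralizer ({v} : Set G) = Yv :=
      eq_of_le_of_card_ge (inf_le_inf_right _ hTY) (hgle.trans h1)
    exact hiT (h2.ge hi).1
  obtain ⟨e, he, j', hj', hev, hjv, rfl⟩ := exists_split (show v * v = 1 from C.sq_of_mem_V hvV)
    (hYo.of_dvd_nat (card_dvd_of_le inf_le_left)) (hnorm hvV C.a_mem_V) hj
  have heD : e ∈ C.D := by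
    have hea : Commute e C.a := mem_centralizer_singleton_iff.1 he.2
    refine C.mem_D_of_odd hea ?_ (hpodd hYp he.1)
    rcases hv with rfl | rfl
    · exact hev
    · have := hea.mul_right hev
      rwa [c, ← mul_assoc, C.ha.1, one_mul] at this
  have hjW : j' ∉ W := fun h => hjT (mul_mem (mem_sup_right ⟨he.1, heD⟩) (mem_sup_left ⟨hj'.1, h⟩))
  rcases C.not_both hKtop hVK hfK hp2 hYp hYK hv hi.1 hj'.1 hiv hia hjv with h | h
  exacts [hiW h, hjW h]

end Ctx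

end CfsgLib.GW.CaseI
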