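import Cfsg.Agent.GW.CaseII.Lemmas
import Cfsg.Agent.GW.CaseII.Linked
import Cfsg.Agent.S0223
import Cfsg.Agent.S1221

/-!
# A subgroup containing `C(a)` properly with fusion contradicts the order formula when `D ≠ 1`
-/

set_option autoImplicit false
set_option linter.style.haveILetI false
set_option linter.unusedSectionVars false

namespace CfsgLib.GW.CaseI.Ctx

open Subgroup
open CfsgLib.NormCyclic (Inv)
open CfsgLib.Linear.SmallSub (P2)
open CfsgLib.DGroup (coreIn conj_mem conj_mem' odd_orderOf eq_one_of_sq eq_one_of_inv_eq)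

universe u

variable {G : Type u} [Group G] [Finite G] (C : Ctx G)
include C

omit C in
theorem arith_one {u n ε η : ℤ} (hu : 3 ≤ u) (hn : 2 ≤ n) (hε : ε = 1 ∨ ε = -1) (hη : η = 1 ∨ η = -1)
    (h : (4 * u + ε) * (2 * u + ε) * n = (4 * u + η) * (2 * u + η)) : False := by
  have h1 : (4 * u - 1) * (2 * u - 1) * n ≤ (4 * u + 1) * (2 * u + 1) := by
    rcases hε with rfl | rfl <;> rcases hη with rfl | rfl <;> nlinarith
  nlinarith [mul_le_mul_of_nonneg_left hn (show (0 : ℤ) ≤ (4 * u - 1) * (2 * u - 1) by nlinarith), mul_le_mul_of_nonneg_right hu (show (0 : ℤ) ≤ u by linarith)]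

omit C in
theorem arith_three {u e ε η : ℤ} (he : 1 ≤ e) (hu : 3 * e ≤ u) (hε : ε = 1 ∨ ε = -1)
    (hη : η = 1 ∨ η = -1) (h : (4 * u + ε) * (2 * u + ε) ≤ (4 * e + η) * (2 * e + η)) : False := by
  have h1 : (4 * e + η) * (2 * e + η) ≤ (4 * e + 1) * (2 * e + 1) := by
    rcases hη with rfl | rfl <;> nlinarith
  have h2 : (4 * u - 1) * (2 * u - 1) ≤ (4 * u + ε) * (2 * u + ε) := by
    rcases hε with rfl | rfl <;> nlinarith
  nlinarith [mul_le_mul (show 12 * e - 1 ≤ 4 * u - 1 by linarith) (show 6 * e - 1 ≤ 2 * u - 1 by linarith)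
    (by linarith) (by linarith)]

theorem exists_conj_of_fus {K : Subgroup G} (hVK : C.V ≤ K) (hfus : C.Fus K) {v : G} (hv : Inv v)
    (hvK : v ∈ K) : ∃ m ∈ K, m * C.a * m⁻¹ = v := by
  haveI : Fact (Nat.Prime 2) := ⟨Nat.prime_two⟩
  obtain ⟨n, hn, -, hna, hnb, -⟩ := C.exists_cycle (hVK C.a_mem_V) (hVK C.b_mem_V) hfus
  obtain ⟨S, hS⟩ := C.exists_sylow_V
  let SK : Sylow 2 K := S.subtype (hS ▸ hVK)
  obtain ⟨T, hT⟩ := (IsPGroup.of_card (p := 2) (n := 1) (by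
    rw [Nat.card_zpowers, ← Subgroup.orderOf_coe, hv.orderOf, pow_one]) :
    IsPGroup 2 (zpowers (⟨v, hvK⟩ : K))).exists_le_sylow
  obtain ⟨g, hg⟩ := MulAction.exists_smul_eq K T SK
  have h : (g : G) * v * (g : G)⁻¹ ∈ C.V := by
    rw [← hS]
    have h1 : g * ⟨v, hvK⟩ * g⁻¹ ∈ (SK : Subgroup K) := by
      rw [← hg]; exact ⟨⟨v, hvK⟩, hT (mem_zpowers _), rfl⟩
    exact h1
  rcases C.mem_V.1 h with e | e | e | e
  · exact absurd (conj_eq_one_iff.1 e) hv.2
  · exact ⟨(g : G)⁻¹, inv_mem g.2, by rw [← e]; group⟩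
  · exact ⟨(g : G)⁻¹ * n, mul_mem (inv_mem g.2) hn, by
      rw [show (g : G)⁻¹ * n * C.a * ((g : G)⁻¹ * n)⁻¹ = (g : G)⁻¹ * (n * C.a * n⁻¹) * g by group,
        hna, ← e]
      group⟩
  · exact ⟨(g : G)⁻¹ * n * n, mul_mem (mul_mem (inv_mem g.2) hn) hn, by
      rw [show (g : G)⁻¹ * n * n * C.a * ((g : G)⁻¹ * n * n)⁻¹ =
        (g : G)⁻¹ * (n * (n * C.a * n⁻¹) * n⁻¹) * g by group, hna, hnb, ← e]
      group⟩

/-- A proper subgroup over `C(a)` with fusion is strongly embedded, so has trivial odd core. -/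
theorem coreIn_eq_bot_of_fus {K : Subgroup G} (hK : K ≠ ⊤) (hH : C.H ≤ K) (hfus : C.Fus K) :
    coreIn K = ⊥ := by
  have hVK : C.V ≤ K := C.V_le_H.trans hH
  have hse : Cfsg.IsStronglyEmbedded K := by
    refine (Cfsg.Agent.S0223.result K hK (even_iff_two_dvd.2 (C.ha.orderOf ▸
      Subgroup.orderOf_dvd_natCard K (hH C.a_mem_H)))).2 ⟨fun t ht ht2 z hz => ?_, ?_⟩
    · obtain ⟨m, hm, hmt⟩ := C.exists_conj_of_fus hVK hfus (Inv.of_orderOf ht2) ht
      have h1 : m⁻¹ * z * m ∈ K := hH (C.mem_H.2 (by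
        have := (Commute.conj_iff m⁻¹).2 (mem_centralizer_singleton_iff.1 hz : Commute z t)
        rw [← hmt, inv_inv, show m⁻¹ * (m * C.a * m⁻¹) * m = C.a by group] at this
        exact this))
      simpa [mul_assoc] using mul_mem (mul_mem hm h1) (inv_mem hm)
    · intro t ht s hs ht2 hs2 _
      obtain ⟨m, hm, hmt⟩ := C.exists_conj_of_fus hVK hfus (Inv.of_orderOf ht2) ht
      obtain ⟨l, hl, hls⟩ := C.exists_conj_of_fus hVK hfus (Inv.of_orderOf hs2) hs
      exact ⟨l * m⁻¹, mul_mem hl (inv_mem hm), by rw [← hmt, ← hls]; group⟩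
  refine le_bot_iff.1 (le_trans (Cfsg.Agent.S1221.result K hse) ?_)
  haveI := C.simple
  haveI := CfsgLib.DGroup.normal_oddCore G
  rcases (CfsgLib.DGroup.normal_oddCore G).eq_bot_or_eq_top with h | h
  · exact h.le
  · exfalso
    have := odd_orderOf (CfsgLib.DGroup.odd_oddCore G) (h ▸ mem_top C.a)
    rw [C.ha.orderOf] at this
    exact absurd this (by decide)

theorem relIndex_D_ne_one (hD : C.D ≠ ⊥) : C.D.relIndex C.U ≠ 1 := by
  intro h
  have hUD : C.U ≤ C.D := relIndex_eq_one.1 h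
  have hUeq : C.U = C.D := le_antisymm hUD C.D_le_U
  have hrho : C.rho ∈ normalizer (C.D : Set G) := mem_normalizer_iff.2 fun x =>
    ⟨fun hx => C.conj_mem_D C.rho_mem hx, fun hx => by
      have := C.conj_mem_D (inv_mem C.rho_mem) hx
      rwa [inv_inv, show C.rho⁻¹ * (C.rho * x * C.rho⁻¹) * C.rho = x by group] at this⟩
  set N := normalizer (C.D : Set G) with hN
  have hHN : C.H ≤ N := by rw [hN, ← hUeq]; exact C.H_le_normalizer_U
  have hNtop : N ≠ ⊤ := C.normalizer_ne_top hD fun h' => by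
    have := odd_orderOf C.odd_D (h' ▸ mem_top C.a)
    rw [C.ha.orderOf] at this
    exact absurd this (by decide)
  have h1 := CfsgLib.DGroup.le_coreIn (H := N) (N := C.D) le_normalizer le_rfl C.odd_D
  rw [C.coreIn_eq_bot_of_fus hNtop hHN ⟨C.rho, hrho, Or.inl C.rho_a⟩] at h1
  exact hD (le_bot_iff.1 h1)

/-- No proper subgroup properly containing `C(a)` has fusion. -/
theorem not_fus_of_lt (O : Order C) (hD : C.D ≠ ⊥) {M : Subgroup G} (hM : M ≠ ⊤) (hH : C.H ≤ M) :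
    ¬ C.Fus M := by
  intro hfus
  have hW := C.coreIn_eq_bot_of_fus hM hH hfus
  have hVM : C.V ≤ M := C.V_le_H.trans hH
  obtain ⟨Lg, F, _, _, hLM, hLn, -, -, hFo, hF8, hmem2, hinL, g, hgs, hgk⟩ :=
    C.exists_shape hM hVM hfus
  have hginj : Function.Injective g := (injective_iff_map_eq_one g).2 fun x hx => Subtype.ext (by
    have := (hgk x).1 hx
    rwa [hW, mem_bot] at this)
  have hVL : C.V ≤ Lg := fun v hv => hmem2 v (hVM hv) (C.sq_of_mem_V hv)
  have hg2 : ∀ v : G, Inv v → ∀ hv : v ∈ Lg, g ⟨v, hv⟩ * g ⟨v, hv⟩ = 1 ∧ g ⟨v, hv⟩ ≠ 1 := fun v hv hvL =>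
    ⟨by rw [← map_mul, ← map_one g]; exact congrArg g (Subtype.ext hv.1),
      fun h => hv.2 (congrArg Subtype.val (hginj (h.trans (map_one g).symm)))⟩
  obtain ⟨ha2, ha1⟩ := hg2 _ C.ha (hVL C.a_mem_V)
  obtain ⟨hb2, hb1⟩ := hg2 _ C.hb (hVL C.b_mem_V)
  have hcm : ∀ u v : Lg, Commute (u : G) v → Commute (g u) (g v) := fun u v h => by
    show g _ * g _ = g _ * g _
    rw [← map_mul, ← map_mul]
    exact congrArg g (Subtype.ext h.eq)
  obtain ⟨u0, ε, T, hε, hq, hu0, hTc, hTcard, hTz, hTmem, hTinv⟩ :=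
    psl_torus hFo hF8 ha2 ha1 hb2 hb1 (hcm _ _ C.hab.symm)
      fun e => C.hne (congrArg Subtype.val (hginj e)).symm
  set A := C.U ⊓ Lg with hA
  have hcoe : ∀ x : Lg, Odd (orderOf (x : G)) → Odd (orderOf (g x)) := fun x hx =>
    hx.of_dvd_nat ((orderOf_map_dvd g x).trans (Subgroup.orderOf_coe x).symm.dvd)
  have hAcard : Nat.card A = u0 := by
    rw [← hTcard]
    let φ : A →* P2 F := g.comp (inclusion inf_le_right)
    have hφ : φ.range = T := by
      refine le_antisymm ?_ fun t ht => ?_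
      · rintro _ ⟨x, rfl⟩
        exact hTmem _ (hcm _ ⟨C.a, hVL C.a_mem_V⟩ (C.commute_a x.2.1))
          (hcoe _ (odd_orderOf C.odd_U x.2.1))
      · obtain ⟨x, rfl⟩ := hgs t
        let a' : Lg := ⟨C.a, hVL C.a_mem_V⟩
        have h0 : x * a' = a' * x := hginj (by rw [map_mul, map_mul]; exact (hTz _ ht).eq)
        have hxa : Commute (x : G) C.a := congrArg Subtype.val h0
        have ho : Odd (orderOf (x : G)) := by
          rw [Subgroup.orderOf_coe, ← orderOf_injective g hginj]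
          exact hu0.of_dvd_nat (hTcard ▸ Subgroup.orderOf_dvd_natCard T ht)
        exact ⟨⟨x, C.mem_U_of_odd (C.mem_H.2 hxa) ho, x.2⟩, rfl⟩
    rw [← hφ]
    exact (Nat.card_congr (MonoidHom.ofInjective
      (hginj.comp (inclusion_injective inf_le_right) : Function.Injective φ)).toEquiv)
  -- `u = |U : D|`
  have hDA : C.D ⊓ A = ⊥ := by
    refine (eq_bot_iff_forall _).2 fun x hx => ?_
    obtain ⟨hxD, -, hxL⟩ := hx
    have h1 := hTinv _ (hTmem _ (hcm ⟨x, hxL⟩ ⟨C.a, hVL C.a_mem_V⟩ (C.commute_of_mem_D hxD C.a_mem_V))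
      (hcoe ⟨x, hxL⟩ (odd_orderOf C.odd_D hxD)))
    rw [conj_eq_of_commute hb2 (hcm ⟨x, hxL⟩ ⟨C.b, hVL C.b_mem_V⟩
      (C.commute_of_mem_D hxD C.b_mem_V))] at h1
    exact congrArg Subtype.val (hginj ((eq_one_of_inv_eq h1.symm
      (hcoe ⟨x, hxL⟩ (odd_orderOf C.odd_D hxD))).trans (map_one g).symm))
  have hDn : C.D ≤ normalizer (A : Set G) := fun d hd => mem_normalizer_inf
    (C.H_le_normalizer_U (C.U_le_H (C.D_le_U hd))) (hLn (hH (C.U_le_H (C.D_le_U hd))))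
  have hsup : C.D ⊔ A = C.U := le_antisymm (sup_le C.D_le_U inf_le_left) fun x hx => by
    obtain ⟨c, hc, i, hi, hcb, hib, rfl⟩ := exists_split C.hb.1 C.odd_U C.b_norm_U hx
    exact mul_mem (mem_sup_left (C.mem_D.2 ⟨hc, hcb⟩)) (mem_sup_right
      ⟨hi, hinL _ _ (hH (C.U_le_H hi)) (hVM C.b_mem_V) C.hb.1 hib⟩)
  have hu : C.D.relIndex C.U = u0 := by
    have e := CfsgLib.Solvable.card_sup_mul_card_inf hDn
    rw [hsup, hDA, card_bot, mul_one, hAcard] at e
    have e2 := card_mul_index (C.D.subgroupOf C.U)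
    rw [Nat.card_congr (subgroupOfEquivOfLe C.D_le_U).toEquiv, e] at e2
    exact Nat.eq_of_mul_eq_mul_left Nat.card_pos e2
  -- `M = L C(a)`
  have hgen : C.H ⊔ Lg = M := by
    refine le_antisymm (sup_le hH hLM) fun m hm => ?_
    have hmL : m * C.a * m⁻¹ ∈ Lg := conj_mem (hLn hm) (hVL C.a_mem_V)
    obtain ⟨hm2, hm1⟩ := hg2 _ (C.ha.conj m) hmL
    obtain ⟨l, hl⟩ := isConj_iff.1 (CfsgLib.Linear.FourGroups.involutions_conj hFo ha2 ha1 hm2 hm1)
    obtain ⟨l, rfl⟩ := hgs l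
    rw [← map_inv, ← map_mul, ← map_mul] at hl
    have h1 : (l : G) * C.a * (l : G)⁻¹ = m * C.a * m⁻¹ := congrArg Subtype.val (hginj hl)
    have h2 : (l : G)⁻¹ * m ∈ C.H := C.mem_H.2 (mul_inv_eq_iff_eq_mul.1 (by
      rw [show (l : G)⁻¹ * m * C.a * ((l : G)⁻¹ * m)⁻¹ = (l : G)⁻¹ * (m * C.a * m⁻¹) * l by group,
        ← h1]
      group))
    rw [show m = (l : G) * ((l : G)⁻¹ * m) by group]
    exact mul_mem (mem_sup_right l.2) (mem_sup_left h2)
  -- the centraliser in `L`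
  have hHL : Nat.card ↥(C.H ⊓ Lg) = 4 * u0 := by
    have hVn : C.V ≤ normalizer (A : Set G) := fun v hv =>
      mem_normalizer_inf (C.H_le_normalizer_U (C.V_le_H hv)) (hLn (hVM hv))
    have hHV : C.V ⊔ A = C.H ⊓ Lg := by
      refine le_antisymm (sup_le (le_inf C.V_le_H hVL) (inf_le_inf_right _ C.U_le_H)) ?_
      rintro x ⟨hxH, hxL⟩
      obtain ⟨u, hu, v, hv, rfl⟩ := C.exists_mul_V hxH
      have huL : u ∈ Lg := by
        have := Lg.mul_mem hxL (Lg.inv_mem (hVL hv))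
        rwa [mul_inv_cancel_right] at this
      exact mul_mem (mem_sup_right ⟨hu, huL⟩) (mem_sup_left hv)
    have hVA : C.V ⊓ A = ⊥ := by
      refine (eq_bot_iff_forall _).2 fun x hx => ?_
      exact eq_one_of_sq (C.sq_of_mem_V hx.1) (odd_orderOf C.odd_U hx.2.1)
    have e := CfsgLib.Solvable.card_sup_mul_card_inf hVn
    rwa [hHV, hVA, card_bot, mul_one, C.card_V, hAcard] at e
  have hHn : C.H ≤ normalizer (Lg : Set G) := hH.trans hLn
  have e1 := CfsgLib.Solvable.card_sup_mul_card_inf hHn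
  rw [hgen, hHL] at e1
  have e2 := card_mul_index (C.H.subgroupOf M)
  rw [Nat.card_congr (subgroupOfEquivOfLe hH).toEquiv] at e2
  set k := (C.H.subgroupOf M).index with hk
  have e3 : k * (4 * u0) = Nat.card Lg := by
    refine Nat.eq_of_mul_eq_mul_left (Nat.card_pos (α := C.H)) ?_
    rw [← mul_assoc, e2, e1]
  have hLcard : Nat.card Lg = Nat.card (P2 F) := Nat.card_congr (Equiv.ofBijective g ⟨hginj, hgs⟩)
  have e4 := two_mul_card_psl hFo
  rw [← hLcard, ← e3] at e4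
  have hq1 : 1 ≤ Fintype.card F ^ 2 := Nat.one_le_pow _ _ Fintype.card_pos
  have e5 : (2 : ℤ) * ((k : ℤ) * (4 * u0)) = (Fintype.card F : ℤ) * ((Fintype.card F : ℤ) ^ 2 - 1) := by
    have := congrArg (Nat.cast : ℕ → ℤ) e4
    push_cast [Nat.cast_sub hq1] at this
    linarith
  rw [hq] at e5
  have hu1 : (u0 : ℤ) ≠ 0 := by exact_mod_cast hu0.pos.ne'
  have hkval : (k : ℤ) = (4 * (u0 : ℤ) + ε) * (2 * (u0 : ℤ) + ε) := by
    refine mul_left_cancel₀ (mul_ne_zero (by norm_num : (8 : ℤ) ≠ 0) hu1) ?_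
    rcases hε with rfl | rfl <;> linear_combination e5
  -- the order formula
  have hn2 : 2 ≤ M.index := Nat.one_lt_iff_ne_zero_and_ne_one.2
    ⟨index_ne_zero_of_finite, fun h => hM (index_eq_one.1 h)⟩
  have hidx : (k : ℤ) * M.index =
      (O.m : ℤ) ^ 2 * (4 * (O.e : ℤ) + O.η) * (2 * (O.e : ℤ) + O.η) := by
    rw [← O.hq, ← O.hindex, ← relIndex_mul_index hH, relIndex, ← hk]
    push_cast
    ring
  have hune : u0 ≠ 1 := hu ▸ C.relIndex_D_ne_one hD
  have hme : O.m * O.e = u0 := hu ▸ O.hme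
  have huo := hu0
  have hue : 3 ≤ u0 := by obtain ⟨j, hj⟩ := huo; omega
  have hmodd : Odd O.m := (Nat.odd_mul.1 (hme ▸ hu0)).1
  have heodd : Odd O.e := (Nat.odd_mul.1 (hme ▸ hu0)).2
  have hnz : (2 : ℤ) ≤ (M.index : ℤ) := by exact_mod_cast hn2
  set B : ℤ := (4 * (O.e : ℤ) + O.η) * (2 * (O.e : ℤ) + O.η) with hB
  have he1 : (1 : ℤ) ≤ O.e := by exact_mod_cast heodd.pos
  have hBpos : 0 < B := by rcases O.hη with h | h <;> rw [hB, h] <;> nlinarith
  have hu' : (u0 : ℤ) = (O.m : ℤ) * O.e := by exact_mod_cast hme.symm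
  -- `k` is prime to `m`
  have hcop : IsCoprime (k : ℤ) ((O.m : ℤ) ^ 2) := by
    refine IsCoprime.pow_right ?_
    have h1 : IsCoprime (4 * (u0 : ℤ) + ε) (O.m : ℤ) := by
      refine ⟨ε, -(4 * ε * O.e), ?_⟩
      rw [hu']; rcases hε with rfl | rfl <;> ring
    have h2 : IsCoprime (2 * (u0 : ℤ) + ε) (O.m : ℤ) := by
      refine ⟨ε, -(2 * ε * O.e), ?_⟩
      rw [hu']; rcases hε with rfl | rfl <;> ring
    rw [hkval]; exact h1.mul_left h2
  have hdvd : (k : ℤ) ∣ B := hcop.dvd_of_dvd_mul_left ⟨M.index, by rw [hidx, hB]; ring⟩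
  have hkB := Int.le_of_dvd hBpos hdvd
  rcases (show O.m = 1 ∨ 3 ≤ O.m by obtain ⟨j, hj⟩ := hmodd; omega) with hm | hm
  · -- `m = 1`
    rw [hm] at hme hidx
    rw [one_mul] at hme
    rw [Nat.cast_one, one_pow, one_mul, hme] at hidx
    rw [hkval] at hidx
    have hu3 : (3 : ℤ) ≤ (u0 : ℤ) := by exact_mod_cast hue
    exact arith_one hu3 hnz hε O.hη hidx
  · have hm3 : (3 : ℤ) ≤ O.m := by exact_mod_cast hm
    rw [hkval, hB] at hkB
    have h3e : 3 * (O.e : ℤ) ≤ u0 := by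
      rw [hu']; exact mul_le_mul_of_nonneg_right hm3 (by linarith)
    exact arith_three he1 h3e hε O.hη hkB

end CfsgLib.GW.CaseI.Ctx
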