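import Cfsg.Agent.GW.CaseII.Lemmas
import Cfsg.Agent.GW.CaseII.Linked

/-!
# Case II: a subgroup of `O_p(M)` normalised by `V` and by a cyclic permutation of its involutions

`M` is a maximal subgroup over `C(a)` with core `R`, the Fitting subgroup of `R` has two primes and
`a` moves `O_p(R)`.
-/

set_option autoImplicit false
set_option linter.style.haveILetI false
set_option linter.unusedSectionVars false

namespace CfsgLib.GW.CaseI.Over

open Subgroup
open CfsgLib.NormCyclic (Inv)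
open CfsgLib.DGroup (coreIn Op cen conj_mem conj_mem' odd_orderOf)

universe u

variable {G : Type u} [Group G] [Finite G] {C : Ctx G} {M R : Subgroup G} (hM : Over C M R)
include hM

theorem coreIn_eq : coreIn M = R :=
  le_antisymm (fun _ hx => hM.mem_of_odd _ (CfsgLib.DGroup.coreIn_le M hx)
    (odd_orderOf (CfsgLib.DGroup.odd_coreIn M) hx))
    (CfsgLib.DGroup.le_coreIn hM.le hM.norm hM.odd)

theorem Op_le_R (p : ℕ) : Op p M ≤ R := hM.coreIn_eq ▸ CfsgLib.DGroup.Op_le p M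

theorem U_le_R : C.U ≤ R := fun _ hx =>
  hM.mem_of_odd _ (hM.H_le (C.U_le_H hx)) (odd_orderOf C.odd_U hx)

theorem centralizer_cen_le {p : ℕ} [Fact p.Prime] (h : Op p M ≠ ⊥) :
    centralizer (cen p M : Set G) ≤ M :=
  (centralizer_le_normalizer _).trans (hM.eq_of_normal (CfsgLib.DGroup.cen_ne_bot h)
    ((inf_le_left.trans (hM.Op_le_R p)).trans hM.le) (CfsgLib.DGroup.le_normalizer_cen p M)).le

theorem prime_ne_two {p : ℕ} [Fact p.Prime] (hbad : ∃ x ∈ Op p M, ¬ Commute x C.a) : p ≠ 2 := by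
  rintro rfl
  obtain ⟨x, hx, hxa⟩ := hbad
  obtain ⟨k, hk⟩ := CfsgLib.DGroup.pow_mem_Op hx
  rw [orderOf_eq_one_iff.1 (Nat.eq_one_of_dvd_coprimes
    ((Nat.coprime_two_right.2 (odd_orderOf (CfsgLib.DGroup.odd_Op 2 M) hx)).pow_right k) dvd_rfl
    (orderOf_dvd_of_pow_eq_one hk))] at hxa
  exact hxa (Commute.one_left _)

/-- The first element: inverted by `a`, fixed by `Uₚ` and by `b` or `ab`, centralising the part of
`O_p` fixed by `a`. -/
theorem exists_first {p : ℕ} [Fact p.Prime] (hbad : ∃ x ∈ Op p M, ¬ Commute x C.a) {Up : Subgroup G}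
    (hUp : C.SylowU p Up) :
    ∃ y ∈ Op p M, y ≠ 1 ∧ C.a * y * C.a = y⁻¹ ∧ (Commute y C.b ∨ Commute y C.c) ∧
      (∀ x ∈ Up, Commute y x) ∧ ∀ z ∈ Op p M, Commute z C.a → Commute y z := by
  have hp2 := hM.prime_ne_two hbad
  set F := Op p M with hF
  have hFo : Odd (Nat.card F) := CfsgLib.DGroup.odd_Op p M
  have hMF : M ≤ normalizer (F : Set G) := CfsgLib.DGroup.le_normalizer_Op p M
  have haM : C.a ∈ M := hM.V_le C.a_mem_V
  obtain ⟨N, hNF, ⟨hNn, hNbad⟩, hNmin⟩ := exists_minimal_le_of_wellFoundedLT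
    (fun N : Subgroup G => M ≤ normalizer (N : Set G) ∧ ∃ x ∈ N, ¬ Commute x C.a) F ⟨hMF, hbad⟩
  set N0 := ⁅N, F⁆ with hN0
  have hFM : F ≤ M := (hM.Op_le_R p).trans hM.le
  have hN0le : N0 ≤ N := le_normalizer_iff_commutator_le_left.1 (hFM.trans hNn)
  have hN0n : M ≤ normalizer (N0 : Set G) := fun g hg => by
    have h1 := mem_normalizer_iff_map_conj_eq.1 (hNn hg)
    have h2 := mem_normalizer_iff_map_conj_eq.1 (hMF hg)
    rw [mem_normalizer_iff_map_conj_eq, hN0, map_commutator, h1, h2]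
  have hN0a : ∀ x ∈ N0, Commute x C.a := by
    intro x hx
    by_contra hxa
    have heq : N0 = N := le_antisymm hN0le (hNmin ⟨hN0n, x, hx, hxa⟩ hN0le)
    haveI := (CfsgLib.DGroup.isPGroup_Op p M).isNilpotent
    obtain ⟨m, hm⟩ := (Subgroup.isNilpotent_iff_lowerCentralSeries F).1 inferInstance
    have hle : ∀ i, N ≤ F.lowerCentralSeries i := by
      intro i
      induction i with
      | zero => exact hNF
      | succ i hi => exact heq.ge.trans (commutator_mono hi le_rfl)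
    have h1 := hm ▸ hle m (hN0le hx)
    rw [mem_bot.1 h1] at hxa
    exact hxa (Commute.one_left _)
  -- some element moved by `a` is fixed by `Uₚ`
  set N2 := N ⊓ centralizer (Up : Set G) with hN2
  have hUpM : Up ≤ M := hUp.le.trans (C.U_le_H.trans hM.H_le)
  have hVn : ∀ v ∈ C.V, v ∈ normalizer (N2 : Set G) := fun v hv =>
    mem_normalizer_inf (hNn (hM.V_le hv)) (CfsgLib.DGroup.mem_normalizer_centralizer (hUp.V_le hv))
  have hN2bad : ∃ x ∈ N2, ¬ Commute x C.a := by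
    by_contra hc
    push Not at hc
    obtain ⟨x, hx, hxa⟩ := hNbad
    have hcop : (Nat.card (zpowers C.a)).Coprime p := by
      rw [Nat.card_zpowers, C.ha.orderOf]
      exact (Nat.coprime_primes Nat.prime_two Fact.out).2 hp2.symm
    have h := CfsgLib.CoprimeAct.p_times_q_aux _ p Up (zpowers C.a) N rfl hUp.isPGroup hcop
      ((CfsgLib.DGroup.isPGroup_Op p M).to_le hNF) (fun z hz => mem_centralizer_iff.2 fun w hw => by
        obtain ⟨k, rfl⟩ := mem_zpowers_iff.1 hw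
        exact ((C.commute_a (hUp.le hz)).symm.zpow_left k).eq) (hUpM.trans hNn)
      (zpowers_le.2 (hNn haM)) (fun z hz => mem_centralizer_iff.2 fun w hw => by
        obtain ⟨k, rfl⟩ := mem_zpowers_iff.1 hw
        exact ((hc z hz).symm.zpow_left k).eq)
    rw [commutator_eq_bot_iff_le_centralizer] at h
    exact hxa (mem_centralizer_iff.1 (h hx) C.a (mem_zpowers _)).symm
  have hN2o : Odd (Nat.card N2) := hFo.of_dvd_nat (card_dvd_of_le (inf_le_left.trans hNF))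
  obtain ⟨y0, hy0, w, hw, hwy, hy0a⟩ :
      ∃ y0 ∈ N2, ∃ w, (w = C.b ∨ w = C.c) ∧ Commute y0 w ∧ ¬ Commute y0 C.a := by
    by_contra hc
    push Not at hc
    obtain ⟨x, hx, hxa⟩ := hN2bad
    refine hxa (mem_centralizer_singleton_iff.1 (CfsgLib.Bender.GSide.le_of_four
      ((Fact.out : p.Prime).odd_of_ne_two hp2)
      ((CfsgLib.DGroup.isPGroup_Op p M).to_le (inf_le_left.trans hNF)) C.ha.orderOf C.hb.orderOf
      C.hab (hVn _ C.a_mem_V) (hVn _ C.b_mem_V)
      (le_normalizer (mem_centralizer_singleton_iff.2 rfl))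
      (le_normalizer (mem_centralizer_singleton_iff.2 C.hab.symm.eq)) ?_ hx))
    intro w y hw hy hwy
    refine mem_centralizer_singleton_iff.2 ?_
    rcases hw with rfl | rfl | rfl
    exacts [hwy.symm.eq, (hc y hy _ (Or.inl rfl) hwy.symm).eq, (hc y hy _ (Or.inr rfl) hwy.symm).eq]
  have hwV : w ∈ C.V := by rcases hw with rfl | rfl; exacts [C.b_mem_V, C.c_mem_V]
  have haS : C.a ∈ normalizer ((N2 ⊓ centralizer ({w} : Set G) : Subgroup G) : Set G) :=
    mem_normalizer_inf (hVn _ C.a_mem_V)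
      (le_normalizer (mem_centralizer_singleton_iff.2 (C.commute_of_mem_V C.a_mem_V hwV).eq))
  obtain ⟨f, hf, i, hi, hfa, hia, hfi⟩ := exists_split C.ha.1
    (hN2o.of_dvd_nat (card_dvd_of_le inf_le_left)) haS
    (⟨hy0, mem_centralizer_singleton_iff.2 hwy.eq⟩ : y0 ∈ N2 ⊓ centralizer ({w} : Set G))
  have hiF : i ∈ F := hNF hi.1.1
  have hio : Odd (orderOf i) := odd_orderOf hFo hiF
  refine ⟨i, hiF, fun h => hy0a (by rw [hfi, h, mul_one]; exact hfa), hia, ?_,
    fun x hx => (mem_centralizer_iff.1 hi.1.2 x hx).symm, fun z hz hza => ?_⟩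
  · have := mem_centralizer_singleton_iff.1 hi.2
    rcases hw with rfl | rfl
    exacts [Or.inl this, Or.inr this]
  · set d := i * z * i⁻¹ * z⁻¹ with hd
    have hdN : d ∈ N0 := by
      rw [hd, ← commutatorElement_def]; exact commutator_mem_commutator hi.1.1 hz
    have hid : Commute i d := commute_of_fixed C.ha.1 hio hia (hN0a d hdN)
      (hN0a _ (conj_mem (hN0n (hFM hiF)) hdN))
    have h1 : C.a * d * C.a = d⁻¹ := by
      rw [hd, invol_mul C.ha.1, invol_mul C.ha.1, invol_mul C.ha.1, invol_inv C.ha.1,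
        invol_inv C.ha.1, hia, conj_eq_of_commute C.ha.1 hza, inv_inv]
      have e : i⁻¹ * (i * z * i⁻¹ * z⁻¹)⁻¹ * i = (i * z * i⁻¹ * z⁻¹)⁻¹ := by
        rw [← hd, mul_assoc, ← hid.inv_right.eq, inv_mul_cancel_left]
      rw [← e]; group
    rw [conj_eq_of_commute C.ha.1 (hN0a d hdN)] at h1
    have h2 := CfsgLib.DGroup.eq_one_of_inv_eq h1.symm
      (odd_orderOf hFo (hNF (hN0le hdN)))
    exact mul_inv_eq_iff_eq_mul.1 (mul_inv_eq_one.1 h2)

/-- The key step: the conjugates of the first element under a cyclic permutation stay in `O_p`. -/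
theorem key {p : ℕ} [Fact p.Prime] (hbad : ∃ x ∈ Op p M, ¬ Commute x C.a)
    (h2 : ∃ r : ℕ, r.Prime ∧ r ≠ p ∧ Op r M ≠ ⊥) {Up : Subgroup G} (hUp : C.SylowU p Up) {y : G}
    (hy : y ∈ Op p M) (hy1 : y ≠ 1) (hya : C.a * y * C.a = y⁻¹) (hyb : Commute y C.b)
    (hyU : ∀ x ∈ Up, Commute y x) (hyF : ∀ z ∈ Op p M, Commute z C.a → Commute y z) :
    ∃ (Y : Subgroup G) (n : G), Y ≤ Op p M ∧ C.V ≤ normalizer (Y : Set G) ∧
      n ∈ normalizer (Y : Set G) ∧ n ∈ normalizer (C.V : Set G) ∧ n * C.a * n⁻¹ = C.b ∧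
      n * C.b * n⁻¹ = C.c ∧ n * C.c * n⁻¹ = C.a ∧ y ∈ Y ∧ Commute y (n⁻¹ * y * n) := by
  have hp2 := hM.prime_ne_two hbad
  set F := Op p M with hF
  have hFp : IsPGroup p F := CfsgLib.DGroup.isPGroup_Op p M
  have hMF : M ≤ normalizer (F : Set G) := CfsgLib.DGroup.le_normalizer_Op p M
  have hyo : Odd (orderOf y) := odd_orderOf (CfsgLib.DGroup.odd_Op p M) hy
  have hyp := exists_pow_of_isPGroup hFp hy
  -- the centraliser of `y`
  set K := centralizer ({y} : Set G) with hK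
  have hKmem : ∀ {g : G}, g ∈ K ↔ Commute g y := fun {g} => mem_centralizer_singleton_iff
  have hbK : C.b ∈ K := hKmem.2 hyb.symm
  have h4 : ¬ 4 ∣ Nat.card K :=
    C.not_four_dvd_of_real hyo hy1 (y := C.a) (by rw [C.ha.inv_eq]; exact hya)
  set W := coreIn K with hW
  have hWodd : ∀ x ∈ K, Odd (orderOf x) → x ∈ W := by
    haveI : Fact (Nat.Prime 2) := ⟨Nat.prime_two⟩
    have hp : IsPGroup 2 (zpowers (⟨C.b, hbK⟩ : K)) := IsPGroup.of_card (n := 1) (by
      rw [Nat.card_zpowers, ← Subgroup.orderOf_coe, C.hb.orderOf, pow_one])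
    let S : Sylow 2 K := hp.toSylow fun hd => h4 (by
      rw [← card_mul_index (zpowers (⟨C.b, hbK⟩ : K)), Nat.card_zpowers, ← Subgroup.orderOf_coe,
        C.hb.orderOf]
      obtain ⟨k, hk⟩ := hd
      exact ⟨k, by rw [hk]; ring⟩)
    obtain ⟨O, hO, hOo, hall⟩ := CfsgLib.DGroup.exists_compl_of_burnside S (by
      intro g hg
      refine mem_centralizer_iff.2 ?_
      rintro x hx
      obtain ⟨k, rfl⟩ := mem_zpowers_iff.1 (show x ∈ zpowers (⟨C.b, hbK⟩ : K) from hx)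
      obtain ⟨j, hj⟩ := mem_zpowers_iff.1 (show g * ⟨C.b, hbK⟩ * g⁻¹ ∈ zpowers (⟨C.b, hbK⟩ : K) from
        (mem_normalizer_iff.1 hg _).1 (mem_zpowers _))
      have hgb : g * ⟨C.b, hbK⟩ * g⁻¹ = ⟨C.b, hbK⟩ := by
        rcases Int.even_or_odd j with ⟨l, rfl⟩ | ⟨l, rfl⟩
        · have hb2 : (⟨C.b, hbK⟩ : K) * ⟨C.b, hbK⟩ = 1 := Subtype.ext C.hb.1
          rw [← two_mul, zpow_mul, zpow_two, hb2, one_zpow] at hj
          exact absurd (congrArg Subtype.val (conj_eq_one_iff.1 hj.symm)) C.hb.2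
        · have hb2 : (⟨C.b, hbK⟩ : K) * ⟨C.b, hbK⟩ = 1 := Subtype.ext C.hb.1
          rw [zpow_add, zpow_mul, zpow_two, hb2, one_zpow, one_mul, zpow_one] at hj
          exact hj.symm
      exact ((show Commute g ⟨C.b, hbK⟩ from mul_inv_eq_iff_eq_mul.1 hgb).zpow_right k).eq.symm)
    intro x hx ho
    exact ⟨⟨x, hx⟩, CfsgLib.DGroup.le_oddCore hO hOo (hall _ (by rwa [Subgroup.orderOf_mk])), rfl⟩
  have hyv : ∀ v ∈ C.V, v * y * v⁻¹ = y ∨ v * y * v⁻¹ = y⁻¹ := by
    intro v hv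
    rcases C.mem_V.1 hv with rfl | rfl | rfl | rfl
    · exact Or.inl (by group)
    · exact Or.inr (by rw [C.ha.inv_eq]; exact hya)
    · exact Or.inl (by rw [← hyb.eq, mul_inv_cancel_right])
    · refine Or.inr ?_
      rw [Ctx.c, show C.a * C.b * y * (C.a * C.b)⁻¹ = C.a * (C.b * y * C.b⁻¹) * C.a⁻¹ by group,
        ← hyb.eq, mul_inv_cancel_right, C.ha.inv_eq]
      exact hya
  have hVK : C.V ≤ normalizer (K : Set G) := by
    intro v hv
    have key : ∀ v ∈ C.V, ∀ g ∈ K, v * g * v⁻¹ ∈ K := fun v hv g hg => hKmem.2 (by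
      have h := (Commute.conj_iff v).2 (hKmem.1 hg)
      rcases hyv v hv with e | e <;> rw [e] at h
      exacts [h, inv_inv y ▸ h.inv_right])
    exact mem_normalizer_iff.2 fun g => ⟨key v hv g, fun hg => by
      simpa [mul_assoc] using key v⁻¹ (inv_mem hv) _ hg⟩
  set E := Op p K with hE
  have hVE : C.V ≤ normalizer (E : Set G) := hVK.trans
    ((CfsgLib.DGroup.normalizer_le_normalizer_coreIn K).trans
      (CfsgLib.DGroup.normalizer_le_normalizer_opIn p W))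
  have hWE : W ≤ normalizer (E : Set G) := CfsgLib.DGroup.coreIn_le_normalizer_Op p K
  have hinW : ∀ q : ℕ, q.Prime → q ≠ p → Op q M ≤ W := fun q hq hqp x hx => by
    haveI : Fact q.Prime := ⟨hq⟩
    exact hWodd x (hKmem.2 (CfsgLib.DGroup.Op_commute hqp hx hy))
      (odd_orderOf (CfsgLib.DGroup.odd_Op q M) hx)
  -- `E` lies in the core of `M`
  have hER : E ≤ R := by
    obtain ⟨r, hr, hrp, hrM⟩ := h2
    haveI : Fact r.Prime := ⟨hr⟩
    set A := F ⊓ K with hA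
    have hAW : A ≤ W := fun x hx => hWodd x hx.2 (odd_orderOf (CfsgLib.DGroup.odd_Op p M) hx.1)
    have hcop : (Nat.card (Op r M)).Coprime p := by
      obtain ⟨k, hk⟩ := IsPGroup.iff_card.1 (CfsgLib.DGroup.isPGroup_Op r M)
      rw [hk]; exact ((Nat.coprime_primes hr Fact.out).2 hrp).pow_left k
    have hne : F ≠ ⊥ := fun h => hy1 (by rw [h, mem_bot] at hy; exact hy)
    have h := CfsgLib.CoprimeAct.p_times_q_aux _ p A (Op r M) E rfl (hFp.to_le inf_le_left) hcop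
      (CfsgLib.DGroup.isPGroup_Op p K)
      (fun a ha => mem_centralizer_iff.2 fun x hx => (CfsgLib.DGroup.Op_commute hrp hx ha.1).eq)
      (hAW.trans hWE) ((hinW r hr hrp).trans hWE) (fun e he => by
        have heM : e ∈ M := hM.centralizer_cen_le hne (mem_centralizer_iff.2 fun z hz =>
          mem_centralizer_iff.1 he.2 z
            ⟨hz.1, hKmem.2 (mem_centralizer_iff.1 hz.2 y hy).symm⟩)
        refine mem_centralizer_iff.2 fun x hx => ?_
        exact (CfsgLib.DGroup.commute_of_pq hrp (CfsgLib.DGroup.isPGroup_Op r M)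
          (CfsgLib.DGroup.isPGroup_Op p K) hx he.1 (hWE (hinW r hr hrp hx))
          (CfsgLib.DGroup.le_normalizer_Op r M heM)).eq)
    rw [commutator_eq_bot_iff_le_centralizer] at h
    intro e he
    exact hM.mem_of_odd e (hM.centralizer_cen_le hrM (mem_centralizer_iff.2 fun z hz =>
      mem_centralizer_iff.1 (h he) z hz.1)) (odd_orderOf (CfsgLib.DGroup.odd_Op p K) he)
  have hEM : E ≤ M := hER.trans hM.le
  have hUpM : Up ≤ M := hUp.le.trans (C.U_le_H.trans hM.H_le)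
  have hUpW : Up ≤ W := fun x hx =>
    hWodd x (hKmem.2 (hyU x hx).symm) (odd_orderOf C.odd_U (hUp.le hx))
  set P0 := F ⊔ (E ⊔ Up) with hP0
  have hEU : IsPGroup p ↥(E ⊔ Up) :=
    (CfsgLib.DGroup.isPGroup_Op p K).to_sup_of_normal_left' hUp.isPGroup (hUpW.trans hWE)
  have hP0p : IsPGroup p P0 :=
    hFp.to_sup_of_normal_left' hEU ((sup_le hEM hUpM).trans hMF)
  have hP0V : C.V ≤ normalizer (P0 : Set G) := fun v hv =>
    mem_normalizer_sup (hMF (hM.V_le hv)) (mem_normalizer_sup (hVE hv) (hUp.V_le hv))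
  obtain ⟨n, hnV, hna, hnb, hnc, hn⟩ := C.linked hp2 hUp
    ((le_sup_right : Up ≤ E ⊔ Up).trans le_sup_right) hP0p hP0V
    (hbad.imp fun x hx => ⟨mem_sup_left hx.1, hx.2⟩)
  have hab : n⁻¹ * C.b * n = C.a := by rw [← hna]; group
  have hac : n⁻¹ * C.a * n = C.c := by rw [← hnc]; group
  have hconj : ∀ {g x v w : G}, Commute x v → g * v * g⁻¹ = w → Commute (g * x * g⁻¹) w :=
    fun {g x v w} h e => e ▸ (Commute.conj_iff g).2 h
  have hconj' : ∀ {g x v w : G}, v * v = 1 → v * x * v = x⁻¹ → g * v * g⁻¹ = w →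
      w * (g * x * g⁻¹) * w = (g * x * g⁻¹)⁻¹ := fun {g x v w} _ h e => by
    rw [← e, show g * v * g⁻¹ * (g * x * g⁻¹) * (g * v * g⁻¹) = g * (v * x * v) * g⁻¹ by group, h]
    group
  have hpow : ∀ g : G, ∃ k, (g * y * g⁻¹) ^ p ^ k = 1 := fun g => by
    obtain ⟨k, hk⟩ := hyp
    exact ⟨k, by rw [conj_pow, hk]; group⟩
  have hodd : ∀ g : G, Odd (orderOf (g * y * g⁻¹)) := fun g => by
    rw [CfsgLib.Invol.orderOf_conj_eq]; exact hyo
  have hcop : ∀ (g : G) {q : ℕ}, q.Prime → q ≠ p → (orderOf (g * y * g⁻¹)).Coprime q :=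
    fun g q hq hqp => by
      haveI : Fact q.Prime := ⟨hq⟩
      exact CfsgLib.DGroup.orderOf_coprime (hpow g) hqp.symm
  -- a conjugate of `y` commutes with the elements moved into `M` that it normalises
  have hpq : ∀ (g : G) {q : ℕ}, q.Prime → q ≠ p → ∀ {Q : Subgroup G}, IsPGroup q Q → ∀ x ∈ Q,
      g⁻¹ * x * g ∈ M → g * y * g⁻¹ ∈ normalizer (Q : Set G) → Commute (g * y * g⁻¹) x := by
    intro g q hq hqp Q hQ x hx hxM hgQ
    haveI : Fact q.Prime := ⟨hq⟩
    refine CfsgLib.DGroup.commute_of_pq hqp.symm (hFp.map (MulAut.conj g).toMonoidHom) hQ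
      ⟨y, hy, rfl⟩ hx hgQ ?_
    have h1 := le_normalizer_map (MulAut.conj g).toMonoidHom ⟨g⁻¹ * x * g, hMF hxM, rfl⟩
    rwa [show (MulAut.conj g).toMonoidHom (g⁻¹ * x * g) = x by
      show g * (g⁻¹ * x * g) * g⁻¹ = x
      group] at h1
  -- the conjugate fixed by `a`
  set z' := n⁻¹ * y * n with hz'
  have hz'a : Commute z' C.a := by
    have := hconj (g := n⁻¹) hyb (w := C.a) (by rw [inv_inv, hab])
    rwa [inv_inv] at this
  have hz'c : C.c * z' * C.c = z'⁻¹ := by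
    have := hconj' (g := n⁻¹) C.ha.1 hya (w := C.c) (by rw [inv_inv, hac])
    rwa [inv_inv] at this
  have hbc : C.b = C.a * C.c := by rw [Ctx.c, ← mul_assoc, C.ha.1, one_mul]
  have hbca : C.b * C.c = C.a := by
    rw [Ctx.c, ← mul_assoc, C.hab.symm.eq, mul_assoc, C.hb.1, mul_one]
  have hz'b : C.b * z' * C.b = z'⁻¹ := by
    conv_lhs => rw [hbc]
    rw [show C.a * C.c * z' * (C.a * C.c) = C.a * (C.c * z' * C.a) * C.c by group, mul_assoc C.c,
      hz'a.eq, ← mul_assoc C.c, C.commute_of_mem_V C.c_mem_V C.a_mem_V, mul_assoc C.a C.c z',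
      ← mul_assoc C.a C.a, C.ha.1, one_mul, hz'c]
  have hz'o : Odd (orderOf z') := by
    have := hodd n⁻¹; rwa [inv_inv] at this
  have hz'R : z' ∈ R := hM.U_le_R (C.mem_U_of_odd (C.mem_H.2 hz'a) hz'o)
  have hRn : ∀ q : ℕ, q.Prime → R ≤ normalizer (Op q M : Set G) := fun q hq => by
    haveI : Fact q.Prime := ⟨hq⟩
    exact hM.coreIn_eq ▸ CfsgLib.DGroup.coreIn_le_normalizer_Op q M
  have hVnO : ∀ q : ℕ, q.Prime → C.V ≤ normalizer (Op q M : Set G) := fun q hq => by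
    haveI : Fact q.Prime := ⟨hq⟩
    exact hM.V_le.trans (CfsgLib.DGroup.le_normalizer_Op q M)
  have hz'F : z' ∈ F := by
    have main : ∀ q : ℕ, q.Prime → (q ≠ p ∨ q = p) →
        (∀ e ∈ Op q M, z' * (z' * e * z'⁻¹ * e⁻¹) * z'⁻¹ * (z' * e * z'⁻¹ * e⁻¹)⁻¹ ∈ frat (Op q M)) ∧
          ((orderOf z').Coprime q → ∀ e ∈ Op q M, Commute z' e) := by
      intro q hq hcase
      haveI : Fact q.Prime := ⟨hq⟩
      by_cases hq2 : q = 2
      · subst hq2
        have h1 : ∀ e ∈ Op 2 M, e = 1 := fun e he => by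
          obtain ⟨k, hk⟩ := CfsgLib.DGroup.pow_mem_Op he
          exact orderOf_eq_one_iff.1 (Nat.eq_one_of_dvd_coprimes ((Nat.coprime_two_right.2
            (odd_orderOf (CfsgLib.DGroup.odd_Op 2 M) he)).pow_right k) dvd_rfl
            (orderOf_dvd_of_pow_eq_one hk))
        exact ⟨fun e he => by rw [h1 e he]; simp, fun _ e he => by
          rw [h1 e he]; exact Commute.one_right _⟩
      refine unipotent hq2 (CfsgLib.DGroup.isPGroup_Op q M) C.hb.1 C.hc.1
        (C.commute_of_mem_V C.b_mem_V C.c_mem_V) (hVnO q hq C.b_mem_V) (hVnO q hq C.c_mem_V)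
        (hRn q hq hz'R) hz'o hz'b (hbca.symm ▸ hz'a) fun x hx hxc => ?_
      have hxn : Commute (n * x * n⁻¹) C.a := hconj hxc hnc
      rcases hcase with hqp | rfl
      · have := hpq n⁻¹ hq hqp (CfsgLib.DGroup.isPGroup_Op q M) x hx (by
          rw [inv_inv]; exact hM.H_le (C.mem_H.2 hxn)) (by rw [inv_inv]; exact hRn q hq hz'R)
        rwa [inv_inv] at this
      · have h1 := (hn x (mem_sup_left hx)).2 hxc
        have h2 := hconj (g := n⁻¹) (hyU _ h1).symm (w := z') (by rw [inv_inv])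
        rw [inv_inv, show n⁻¹ * (n * x * n⁻¹) * n = x by group] at h2
        exact h2.symm
    refine mem_Op_of_quadratic hp2 (hM.coreIn_eq.symm ▸ hz'R) (by
      have := hpow n⁻¹; rwa [inv_inv] at this) (fun q hq hqp x hx => ?_) (main p Fact.out (Or.inr rfl)).1
    exact ((main q hq (Or.inl hqp)).2 (by
      have := hcop n⁻¹ hq hqp; rwa [inv_inv] at this) x hx).symm
  have hyz' : Commute y z' := hyF z' hz'F hz'a
  -- the conjugate fixed by `ab`
  set z0 := n * y * n⁻¹ with hz0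
  have hz0c : Commute z0 C.c := hconj hyb hnb
  have hz0b : C.b * z0 * C.b = z0⁻¹ := hconj' C.ha.1 hya hna
  have hz0a : C.a * z0 * C.a = z0⁻¹ := by
    conv_lhs => rw [← hbca]
    rw [show C.b * C.c * z0 * (C.b * C.c) = C.b * (C.c * z0 * C.b) * C.c by group, mul_assoc C.c,
      ← mul_assoc C.b C.c, C.commute_of_mem_V C.b_mem_V C.c_mem_V, mul_assoc C.c C.b,
      ← mul_assoc C.b z0, hz0b, mul_assoc, hz0c.inv_left.eq, ← mul_assoc, C.hc.1, one_mul]
  have hz0K : z0 ∈ K := hKmem.2 (by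
    have := hconj (g := n) hyz' (w := y) (by rw [hz']; group)
    exact this)
  have hz0W : z0 ∈ W := hWodd _ hz0K (hodd n)
  have hfixp : ∀ x ∈ P0, Commute x C.b → Commute z0 x := fun x hx hxb => by
    have h1 := hconj (g := n) (hyU _ ((hn x hx).1 hxb)).symm (w := z0) rfl
    rw [show n * (n⁻¹ * x * n) * n⁻¹ = x by group] at h1
    exact h1.symm
  have hmain : ∀ (X : Subgroup G), z0 ∈ coreIn X →
      (∀ q : ℕ, q.Prime → C.V ≤ normalizer (Op q X : Set G)) → Op p X ≤ P0 → z0 ∈ Op p X := by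
    intro X hz0X hVX hXP
    have main : ∀ q : ℕ, q.Prime → q ≠ 2 → (q ≠ p ∨ q = p) →
        (∀ e ∈ Op q X, z0 * (z0 * e * z0⁻¹ * e⁻¹) * z0⁻¹ * (z0 * e * z0⁻¹ * e⁻¹)⁻¹ ∈ frat (Op q X)) ∧
          ((orderOf z0).Coprime q → ∀ e ∈ Op q X, Commute z0 e) := by
      intro q hq hq2 hcase
      haveI : Fact q.Prime := ⟨hq⟩
      refine unipotent hq2 (CfsgLib.DGroup.isPGroup_Op q X) C.ha.1 C.hb.1 C.hab (hVX q hq C.a_mem_V)
        (hVX q hq C.b_mem_V) (CfsgLib.DGroup.coreIn_le_normalizer_Op q X hz0X) (hodd n) hz0a hz0c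
        fun x hx hxb => ?_
      rcases hcase with hqp | rfl
      · refine hpq n hq hqp (CfsgLib.DGroup.isPGroup_Op q X) x hx (hM.H_le (C.mem_H.2 ?_))
          (CfsgLib.DGroup.coreIn_le_normalizer_Op q X hz0X)
        have := hconj (g := n⁻¹) hxb (w := C.a) (by rw [inv_inv, hab])
        rwa [inv_inv] at this
      · exact hfixp x (hXP hx) hxb
    refine mem_Op_of_quadratic hp2 hz0X (hpow n) (fun q hq hqp x hx => ?_)
      (main p Fact.out hp2 (Or.inr rfl)).1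
    by_cases hq2 : q = 2
    · subst hq2
      haveI : Fact (Nat.Prime 2) := ⟨hq⟩
      obtain ⟨k, hk⟩ := CfsgLib.DGroup.pow_mem_Op hx
      rw [orderOf_eq_one_iff.1 (Nat.eq_one_of_dvd_coprimes ((Nat.coprime_two_right.2
        (odd_orderOf (CfsgLib.DGroup.odd_Op 2 X) hx)).pow_right k) dvd_rfl
        (orderOf_dvd_of_pow_eq_one hk))]
      exact Commute.one_left _
    exact ((main q hq hq2 (Or.inl hqp)).2 (hcop n hq hqp) x hx).symm
  have hz0E : z0 ∈ E := hmain K hz0W (fun q hq => by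
    haveI : Fact q.Prime := ⟨hq⟩
    exact hVK.trans ((CfsgLib.DGroup.normalizer_le_normalizer_coreIn K).trans
      (CfsgLib.DGroup.normalizer_le_normalizer_opIn q W)))
    ((le_sup_left : E ≤ E ⊔ Up).trans le_sup_right)
  have hz0F : z0 ∈ F := hmain M (hM.coreIn_eq.symm ▸ hER hz0E) hVnO le_sup_left
  -- the orbit
  set Y := closure (Set.range fun i : ℤ => n ^ i * y * (n ^ i)⁻¹) with hY
  have hn3 : n ^ (3 : ℤ) ∈ M := hM.H_le (C.mem_H.2 (mul_inv_eq_iff_eq_mul.1 (by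
    rw [show n ^ (3 : ℤ) * C.a * (n ^ (3 : ℤ))⁻¹ = n * (n * (n * C.a * n⁻¹) * n⁻¹) * n⁻¹ by
      rw [show (3 : ℤ) = 1 + 1 + 1 from rfl, zpow_add, zpow_add, zpow_one]
      simp only [mul_inv_rev, mul_assoc],
      hna, hnb, hnc])))
  have horb : ∀ i : ℤ, n ^ i * y * (n ^ i)⁻¹ ∈ F := by
    intro i
    obtain ⟨k, r, hr, rfl⟩ : ∃ k r : ℤ, (r = -1 ∨ r = 0 ∨ r = 1) ∧ i = 3 * k + r :=
      ⟨(i + 1) / 3, (i + 1) % 3 - 1, by omega, by omega⟩
    have h1 : n ^ r * y * (n ^ r)⁻¹ ∈ F := by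
      rcases hr with rfl | rfl | rfl
      · rw [zpow_neg_one, inv_inv]; exact hz'F
      · rw [zpow_zero, one_mul, inv_one, mul_one]; exact hy
      · rw [zpow_one]; exact hz0F
    rw [zpow_add, zpow_mul,
      show (n ^ (3 : ℤ)) ^ k * n ^ r * y * ((n ^ (3 : ℤ)) ^ k * n ^ r)⁻¹ =
        (n ^ (3 : ℤ)) ^ k * (n ^ r * y * (n ^ r)⁻¹) * ((n ^ (3 : ℤ)) ^ k)⁻¹ by group]
    exact conj_mem (hMF (zpow_mem hn3 k)) h1
  refine ⟨Y, n, (closure_le _).2 (Set.range_subset_iff.2 horb), fun v hv => ?_, ?_, hnV, hna, hnb,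
    hnc, subset_closure ⟨0, by simp⟩, hyz'⟩
  · have key : ∀ v ∈ C.V, Y.map (MulAut.conj v).toMonoidHom ≤ Y := by
      intro v hv
      rw [hY, MonoidHom.map_closure, closure_le]
      rintro _ ⟨_, ⟨i, rfl⟩, rfl⟩
      show v * (n ^ i * y * (n ^ i)⁻¹) * v⁻¹ ∈ Y
      rw [show v * (n ^ i * y * (n ^ i)⁻¹) * v⁻¹ =
        n ^ i * ((n ^ i)⁻¹ * v * n ^ i * y * ((n ^ i)⁻¹ * v * n ^ i)⁻¹) * (n ^ i)⁻¹ by group]
      rcases hyv _ (conj_mem' (zpow_mem hnV i) hv) with e | e <;> rw [e]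
      · exact subset_closure ⟨i, rfl⟩
      · rw [show n ^ i * y⁻¹ * (n ^ i)⁻¹ = (n ^ i * y * (n ^ i)⁻¹)⁻¹ by group]
        exact inv_mem (subset_closure ⟨i, rfl⟩)
    exact mem_normalizer_iff_map_conj_eq.2 (eq_of_le_of_card_ge (key v hv)
      (card_map_of_injective (MulAut.conj v).injective).ge)
  · refine mem_normalizer_iff_map_conj_eq.2 (eq_of_le_of_card_ge ?_
      (card_map_of_injective (MulAut.conj n).injective).ge)
    rw [hY, MonoidHom.map_closure, closure_le]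
    rintro _ ⟨_, ⟨i, rfl⟩, rfl⟩
    refine subset_closure ⟨1 + i, ?_⟩
    show n ^ (1 + i) * y * (n ^ (1 + i))⁻¹ = n * (n ^ i * y * (n ^ i)⁻¹) * n⁻¹
    rw [zpow_one_add]; group

end CfsgLib.GW.CaseI.Over
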