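import Cfsg.Agent.GW.CaseII.Key
import Cfsg.Agent.GW.CaseII.Fused

/-!
# Case II: `C(a)` is a maximal subgroup
-/

set_option autoImplicit false
set_option linter.style.haveILetI false
set_option linter.unusedSectionVars false

namespace CfsgLib.GW.CaseI

open Subgroup
open CfsgLib.NormCyclic (Inv)
open CfsgLib.DGroup (coreIn Op conj_mem conj_mem' odd_orderOf eq_one_of_sq eq_one_of_inv_eq)

universe u

variable {G : Type u} [Group G] [Finite G]

namespace Ctx

variable (C : Ctx G)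

/-- Exchange of `b` and `a * b`. -/
def flip : Ctx G where
  a := C.a
  b := C.c
  rho := C.rho⁻¹
  ha := C.ha
  hb := C.hc
  hab := C.commute_of_mem_V C.a_mem_V C.c_mem_V
  hne := C.a_ne_c
  sylow := C.sylow
  rho_a := by rw [← C.rho_c]; group
  rho_b := by
    rw [show C.a * C.c = C.b by rw [c, ← mul_assoc, C.ha.1, one_mul],
      show C.c = C.rho * C.b * C.rho⁻¹ from C.rho_b.symm]
    group
  simple := C.simple
  na := C.na
  IH := fun M hM ha hc ⟨g, hg, h⟩ => by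
    have hac : C.a * C.c = C.b := by rw [c, ← mul_assoc, C.ha.1, one_mul]
    refine C.IH M hM ha (hac ▸ mul_mem ha hc) ⟨g, hg, ?_⟩
    rw [hac] at h
    exact h.symm

theorem flip_b : C.flip.b = C.c := rfl

theorem flip_c : C.flip.c = C.b := by
  show C.a * C.c = C.b
  rw [c, ← mul_assoc, C.ha.1, one_mul]

theorem flip_V : C.flip.V = C.V := Subgroup.ext fun x => by
  rw [C.flip.mem_V, C.mem_V, C.flip_c, C.flip_b, show C.flip.a = C.a from rfl]
  tauto

theorem sylowU_flip {p : ℕ} {P : Subgroup G} (h : C.SylowU p P) : C.flip.SylowU p P :=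
  ⟨h.isPGroup, h.le, h.index, C.flip_V.symm ▸ h.V_le⟩

/-- A subgroup over `C(a)` without fusion is the product of an odd normal subgroup and `V`. -/
theorem exists_over {M : Subgroup G} (hM : M ≠ ⊤) (hmax : ∀ K : Subgroup G, M ≤ K → K ≠ ⊤ → K = M)
    (hH : C.H ≤ M) (hnf : ¬ C.Fus M) : ∃ R, Over C M R := by
  haveI : Fact (Nat.Prime 2) := ⟨Nat.prime_two⟩
  have hVM : C.V ≤ M := C.V_le_H.trans hH
  obtain ⟨R, hRM, hMR, hRo, hRodd⟩ := C.exists_compl hVM hnf
  refine ⟨R, hH, hM, hmax, hRM, hMR, hRo, hRodd, ?_⟩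
  have hVR : C.V ⊓ R = ⊥ := (eq_bot_iff_forall _).2 fun x hx =>
    eq_one_of_sq (C.sq_of_mem_V hx.1) (odd_orderOf hRo hx.2)
  have e := CfsgLib.Solvable.card_sup_mul_card_inf (hVM.trans hMR)
  rw [hVR, card_bot, mul_one, C.card_V] at e
  have hle : Nat.card M ∣ 4 * Nat.card R := by
    refine (Nat.factorization_prime_le_iff_dvd Nat.card_pos.ne'
      (Nat.mul_ne_zero four_ne_zero Nat.card_pos.ne')).1 fun q hq => ?_
    haveI : Fact q.Prime := ⟨hq⟩
    obtain ⟨S⟩ : Nonempty (Sylow q M) := inferInstance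
    have hS : q ^ (Nat.card M).factorization q = Nat.card S := S.card_eq_multiplicity.symm
    refine (hq.pow_dvd_iff_le_factorization (Nat.mul_ne_zero four_ne_zero Nat.card_pos.ne')).1 ?_
    rw [hS, ← card_map_of_injective M.subtype_injective]
    by_cases hq2 : q = 2
    · subst hq2
      obtain ⟨S', hS'⟩ := (S.2.map M.subtype).exists_le_sylow
      exact ((card_dvd_of_le hS').trans (C.sylow S').dvd).mul_right _
    · refine (card_dvd_of_le fun x hx => ?_).mul_left 4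
      obtain ⟨y, hy, rfl⟩ := hx
      refine hRodd _ y.2 ?_
      obtain ⟨k, hk⟩ := IsPGroup.iff_card.1 S.2
      rw [show orderOf (M.subtype y) = orderOf y from Subgroup.orderOf_coe y]
      exact odd_orderOf (hk ▸ (hq.odd_of_ne_two hq2).pow) hy
  have hsup : C.V ⊔ R = M := eq_of_le_of_card_ge (sup_le hVM hRM)
    (e.symm ▸ Nat.le_of_dvd (Nat.mul_pos (by norm_num) Nat.card_pos) hle)
  intro m hm
  obtain ⟨v, hv, r, hr, rfl⟩ :=
    (CfsgLib.Solvable.mem_sup_of_le_normalizer (hVM.trans hMR)).1 (hsup.symm ▸ hm)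
  exact ⟨v * r * v⁻¹, conj_mem (hMR (hVM hv)) hr, v, hv, by group⟩

end Ctx

namespace Over

variable {C : Ctx G} {M R : Subgroup G} (hM : Over C M R)
include hM

theorem flip : Over C.flip M R where
  H_le := hM.H_le
  ne_top := hM.ne_top
  max := hM.max
  le := hM.le
  norm := hM.norm
  odd := hM.odd
  mem_of_odd := hM.mem_of_odd
  decomp := C.flip_V.symm ▸ hM.decomp

/-- If `a` centralises the Fitting subgroup of the core then `M = C(a)`. -/
theorem exists_bad (hlt : C.H < M) : ∃ p : ℕ, p.Prime ∧ ∃ x ∈ Op p M, ¬ Commute x C.a := by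
  by_contra hc
  push Not at hc
  refine hlt.not_ge fun m hm => ?_
  obtain ⟨r, hr, v, hv, rfl⟩ := hM.decomp m hm
  refine mul_mem (C.mem_H.2 ?_) (C.V_le_H hv)
  have haR : C.a ∈ normalizer (R : Set G) := hM.norm (hM.V_le C.a_mem_V)
  obtain ⟨f, hf, i, hi, hfa, hia, rfl⟩ := exists_split C.ha.1 hM.odd haR hr
  have hio := odd_orderOf hM.odd hi
  have hfit : i ∈ MaxBender.fit (coreIn M) :=
    CfsgLib.DGroup.mem_fit_of_commute (hM.coreIn_eq.symm ▸ hi) fun q hq z hz => by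
      haveI : Fact q.Prime := ⟨hq⟩
      exact (commute_of_fixed C.ha.1 hio hia (hc q hq z hz) (hc q hq _
        (conj_mem (CfsgLib.DGroup.le_normalizer_Op q M (hM.le hi)) hz))).symm
  have hc2 : Commute i C.a := mem_centralizer_singleton_iff.1
    (CfsgLib.DGroup.fit_le_centralizer hc hfit)
  rw [conj_eq_of_commute C.ha.1 hc2] at hia
  rw [eq_one_of_inv_eq hia.symm hio, mul_one]
  exact hfa

/-- A moved `O_p` is not the whole Fitting subgroup. -/
theorem two_primes {p : ℕ} [Fact p.Prime] (hbad : ∃ x ∈ Op p M, ¬ Commute x C.a) :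
    ∃ r : ℕ, r.Prime ∧ r ≠ p ∧ Op r M ≠ ⊥ := by
  by_contra hc
  push Not at hc
  have hp2 := hM.prime_ne_two hbad
  set F := Op p M with hF
  have hFR : F ≤ R := hM.Op_le_R p
  have hsolV : Group.IsSolvable C.V :=
    Group.isSolvable_of_comm fun x y => Subtype.ext (C.commute_of_mem_V x.2 y.2)
  have hcop : (Nat.card C.V).Coprime (Nat.card R) := by
    rw [C.card_V]; exact ((Nat.coprime_two_left.2 hM.odd).pow_left 2 :)
  obtain ⟨Up, hUp⟩ := C.exists_sylowU p
  obtain ⟨S, hUS, hSV⟩ := CfsgLib.CoprimeAct.exists_invariant_sylow_ge (A := C.V) (K := R)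
    (hM.V_le.trans hM.norm) hcop (Or.inl hsolV) p (hUp.le.trans hM.U_le_R) hUp.isPGroup hUp.V_le
  set P := (S : Subgroup R).map R.subtype with hP
  have hPp : IsPGroup p P := S.2.map _
  have hPR : P ≤ R := map_subtype_le _
  have hFP : F ≤ P := by
    haveI : (F.subgroupOf R).Normal := (normal_subgroupOf_iff_le_normalizer hFR).2
      (hM.le.trans (CfsgLib.DGroup.le_normalizer_Op p M))
    have hp : IsPGroup p (F.subgroupOf R) := (CfsgLib.DGroup.isPGroup_Op p M).comap_subtype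
    have h1 : F.subgroupOf R ⊔ (S : Subgroup R) = S :=
      S.3 (hp.to_sup_of_normal_left S.2) le_sup_right
    intro x hx
    exact ⟨⟨x, hFR hx⟩, h1.le (mem_sup_left hx), rfl⟩
  obtain ⟨x, hx, hxa⟩ := hbad
  have hP1 : P ≠ ⊥ := fun h => by
    have := hFP hx
    rw [h, mem_bot] at this
    exact hxa (this ▸ Commute.one_left _)
  set Z := Cfsg.centerThompsonAOf P with hZ
  -- `ZJ(P)` is normal in `M`
  have hO : Cfsg.pPrimeCore p R = ⊥ := by
    refine (map_eq_bot_iff_of_injective _ R.subtype_injective).1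
      (CfsgLib.DGroup.eq_bot_of_coprime (M := M) (hM.coreIn_eq.symm ▸ map_subtype_le _)
        (fun g hg => ?_) fun r hr => ?_)
    · haveI := (CfsgLib.Solvable.pPrimeCore_spec (G := R) p).1
      have hgR : g ∈ R := hM.coreIn_eq ▸ hg
      exact le_normalizer_map R.subtype ⟨⟨g, hgR⟩, by rw [normalizer_eq_top]; exact mem_top _, rfl⟩
    · obtain ⟨hr1, hr2⟩ := CfsgLib.DGroup.mem_sig.1 hr
      have : r = p := by
        by_contra h
        exact hr2 (hc r hr1 h)
      subst this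
      rw [card_map_of_injective R.subtype_injective]
      exact CfsgLib.Solvable.coprime_card_pPrimeCore r
  have hRZ : R ≤ normalizer (Z : Set G) := by
    have h1 := sup_normalizer_zj (p := p) hM.odd hp2 S
    rw [hO, bot_sup_eq] at h1
    intro r hr
    have h2 : (⟨r, hr⟩ : R) ∈ normalizer (Cfsg.centerThompsonAOf (S : Subgroup R) : Set R) :=
      h1 ▸ mem_top _
    have h3 : Z = (Cfsg.centerThompsonAOf (S : Subgroup R)).map R.subtype := by
      rw [hZ, hP]
      exact CfsgLib.ZJ.centerThompsonAOf_map _ _ fun x _ h => R.subtype_injective (h.trans (map_one _).symm)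
    rw [h3]
    exact le_normalizer_map R.subtype ⟨_, h2, rfl⟩
  have hMZ : M ≤ normalizer (Z : Set G) := fun m hm => by
    obtain ⟨r, hr, v, hv, rfl⟩ := hM.decomp m hm
    exact mul_mem (hRZ hr) (normalizer_le_centerThompsonAOf P (hSV hv))
  have hNZ := hM.eq_of_normal (CfsgLib.Fusion.centerThompsonAOf_ne_bot hPp hP1)
    ((centerThompsonAOf_le P).trans (hPR.trans hM.le)) hMZ
  have hnf : ¬ C.Fus (normalizer (Cfsg.centerThompsonAOf P : Set G)) := by
    rw [← hZ, hNZ]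
    rintro ⟨g, hg, h⟩
    obtain ⟨r, hr, v, hv, rfl⟩ := hM.decomp g hg
    have hva : v * C.a * v⁻¹ = C.a := by
      rw [(C.commute_of_mem_V hv C.a_mem_V).eq, mul_inv_cancel_right]
    have hrv : r * v * C.a * (r * v)⁻¹ = r * C.a * r⁻¹ := by
      rw [show r * v * C.a * (r * v)⁻¹ = r * (v * C.a * v⁻¹) * r⁻¹ by group, hva]
    rw [hrv] at h
    have hc : r * C.a * r⁻¹ * C.a⁻¹ ∈ R := by
      rw [show r * C.a * r⁻¹ * C.a⁻¹ = r * (C.a * r⁻¹ * C.a⁻¹) by group]
      exact mul_mem hr (conj_mem (hM.norm (hM.V_le C.a_mem_V)) (inv_mem hr))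
    have ho := odd_orderOf hM.odd hc
    rcases h with h | h <;> rw [h, C.ha.inv_eq] at ho
    · exact C.hc.2 (eq_one_of_sq C.hc.1 (by rwa [Ctx.c, C.hab.eq]))
    · rw [Ctx.c, C.hab.eq, mul_assoc, C.ha.1, mul_one] at ho
      exact C.hb.2 (eq_one_of_sq C.hb.1 ho)
  obtain ⟨T, hT⟩ := hPp.exists_le_sylow
  have hTP : (T : Subgroup G) = P := by
    by_contra hne
    obtain ⟨Z', hlt, hZT, hZn⟩ :=
      CfsgLib.Bender.GSide.exists_between (lt_of_le_of_ne hT (Ne.symm hne)) T.2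
    have hZp := T.2.to_le hZT
    have hZR : Z' ≤ R := fun z hz => hM.mem_of_odd z
      (hNZ ▸ normalizer_le_centerThompsonAOf P (hZn hz)) (by
        obtain ⟨k, hk⟩ := IsPGroup.iff_card.1 hZp
        exact odd_orderOf (hk ▸ ((Fact.out : p.Prime).odd_of_ne_two hp2).pow) hz)
    have h1 := S.3 (hZp.comap_subtype (K := R)) fun y hy => hlt.le ⟨y, hy, rfl⟩
    obtain ⟨z, hz, hzP⟩ := SetLike.exists_of_lt hlt
    exact hzP ⟨⟨z, hZR hz⟩, h1.le (show (⟨z, hZR hz⟩ : R) ∈ Z'.comap R.subtype from hz), rfl⟩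
  exact hxa (C.commute_of_not_fus hp2 hUp hUS hTP hSV hnf x (hFP hx))

/-- The data passed to the final step, for `C` or for its flip. -/
def Data (C : Ctx G) (M : Subgroup G) (p : ℕ) : Prop :=
  ∃ (Y : Subgroup G) (n y : G), Y ≤ Op p M ∧ C.V ≤ normalizer (Y : Set G) ∧
    n ∈ normalizer (Y : Set G) ∧ n ∈ normalizer (C.V : Set G) ∧ n * C.a * n⁻¹ = C.b ∧
    n * C.b * n⁻¹ = C.c ∧ n * C.c * n⁻¹ = C.a ∧ y ∈ Y ∧ y ≠ 1 ∧ C.a * y * C.a⁻¹ = y⁻¹ ∧
    Commute y C.b ∧ Commute y (n⁻¹ * y * n)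

theorem data {p : ℕ} [Fact p.Prime] (hbad : ∃ x ∈ Op p M, ¬ Commute x C.a)
    (h2 : ∃ r : ℕ, r.Prime ∧ r ≠ p ∧ Op r M ≠ ⊥) : Data C M p ∨ Data C.flip M p := by
  obtain ⟨Up, hUp⟩ := C.exists_sylowU p
  obtain ⟨y, hy, hy1, hya, hyw, hyU, hyF⟩ := hM.exists_first hbad hUp
  have hya' : C.a * y * C.a⁻¹ = y⁻¹ := by rw [C.ha.inv_eq]; exact hya
  rcases hyw with hyb | hyc
  · obtain ⟨Y, n, h1, h3, h4, h5, h6, h7, h8, h9, h10⟩ := hM.key hbad h2 hUp hy hy1 hya hyb hyU hyF
    exact Or.inl ⟨Y, n, y, h1, h3, h4, h5, h6, h7, h8, h9, hy1, hya', hyb, h10⟩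
  · obtain ⟨Y, n, h1, h3, h4, h5, h6, h7, h8, h9, h10⟩ :=
      hM.flip.key hbad h2 (C.sylowU_flip hUp) hy hy1 hya (show Commute y C.flip.b from hyc) hyU hyF
    exact Or.inr ⟨Y, n, y, h1, h3, h4, h5, h6, h7, h8, h9, hy1, hya', hyc, h10⟩

end Over

end CfsgLib.GW.CaseI
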